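import Mathlib
import Cfsg.Prelude.Def_ChevStructure
import Cfsg.Prelude.Def_ChevD4
import Cfsg.Agent.Lib.Helper3.ChevAut33
import Cfsg.Agent.Lib.Helper3.ChevAut26
import Cfsg.Agent.Lib.Helper3.ChevAut18
import Cfsg.Agent.Lib.Helper3.ChevAut14
import Cfsg.Agent.Lib.Helper3.ChevAutD4
import Cfsg.Agent.Lib.Helper3.ChevData.D4Hd2
import Cfsg.Agent.Lib.Helper3.ChevData.D4GraphA
import Cfsg.Agent.Lib.Helper3.ChevData.D4GraphB
import Cfsg.Agent.Lib.Helper3.ChevData.D4GraphC
import Cfsg.Agent.Lib.Helper3.ChevData.D4GraphD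
import Cfsg.Agent.Lib.Helper3.ChevData.D4GraphE
set_option autoImplicit false
set_option linter.unusedSectionVars false
set_option linter.style.haveILetI false
set_option maxRecDepth 1000000
open Cfsg Cfsg.Lie

/-! The order of the outer automorphism group of `D₄(q)`. -/

namespace Cfsg.Agent.Lib.Helper5.OPlus

open Cfsg.Agent.Lib.Helper3.ChevM Cfsg.Agent.Lib.Helper3.ChevSp Cfsg.Agent.Lib.Helper3 ChevU ChevT ChevH
open Cfsg.Agent.Lib.Helper3.ChevAt Cfsg.Agent.Lib.Helper1 Cfsg.Agent.Lib.Helper3.ChevAut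

/-- the graph automorphisms of `D₄` -/
theorem d4_graphLike' {K : Type*} [Field K] (G : GraphData cdD4) (l : List ℕ)
    (hs : graphSimpleCheck cdD4.D G.p G.rho G.eps = true)
    (hpos : ∀ r < cdD4.D.nroots, cdD4.D.IsPosRoot r → cdD4.D.IsPosRoot (G.rho r))
    (hneg : ∀ r < cdD4.D.nroots, cdD4.D.IsNegRoot r → cdD4.D.IsNegRoot (G.rho r))
    (hl : ∀ i < cdD4.D.rank, G.p i = l.getD i 0) :
    ∃ γ : MulAut ↥(cdD4.D.group K), Nonempty (GraphLike relD4 K γ (fun i => l.getD i 0)) :=
  ⟨_, ⟨(graphLikeOfData autHypD4.A G hs hpos hneg).congr hl⟩⟩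

/-- The order of the outer automorphism group of `D₄(q)`. -/
theorem d4_card_out {F : Type*} [Field F] [Fintype F] (p f : ℕ) [Fact p.Prime] [CharP F p]
    (hF : Fintype.card F = p ^ f) :
    Nat.card (Cfsg.Out ↥(cdD4.D.group F)) = 6 * Nat.gcd 2 (p ^ f - 1) ^ 2 * f := by
  have h2 : Nat.card F = p ^ f := by rw [Nat.card_eq_fintype_card]; exact hF
  have h3 := card_ringAut_prime (F := F) p h2
  have h4 := index_range_pw (K := F) (l := cdD4.D.rank) smPD4 (cartanMat cdD4.D) smQD4 smPiD4 smQiD4 smDD4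
    (by decide +kernel) (by decide +kernel) (by decide +kernel) (by decide +kernel)
  have h5 : ∏ k : Fin cdD4.D.rank, (Fintype.card F - 1).gcd (smDD4 k) = Nat.gcd 2 (p ^ f - 1) ^ 2 := by
    show ∏ k : Fin 4, (Fintype.card F - 1).gcd (smDD4 k) = _
    rw [Fin.prod_univ_four, hF]
    have e : ∀ k : Fin 4, smDD4 k = (#[1, 1, 2, 2] : Array ℕ).getD k.val 0 := fun k => rfl
    simp only [e]
    simp [Nat.gcd_comm, sq]
  have h1 := card_out_graph (K := F) bondHypD4 p (d4_sylow (F := F) p)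
    [[0, 1, 2, 3], [0, 1, 3, 2], [2, 1, 0, 3], [2, 1, 3, 0], [3, 1, 0, 2], [3, 1, 2, 0]] (by decide) ?_ ?_
  · rw [h1, h3, h4, h5]
    rfl
  · intro l hl
    simp only [List.mem_cons, List.not_mem_nil, or_false] at hl
    rcases hl with rfl | rfl | rfl | rfl | rfl | rfl
    · exact ⟨rfl, by decide, 1, ⟨graphLikeOfId relD4 F _ (by decide)⟩⟩
    · exact ⟨rfl, by decide, d4_graphLike' graphD4C _ (by decide +kernel) (by decide +kernel)
        (by decide +kernel) (by decide +kernel)⟩
    · exact ⟨rfl, by decide, d4_graphLike' graphD4D _ (by decide +kernel) (by decide +kernel)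
        (by decide +kernel) (by decide +kernel)⟩
    · exact ⟨rfl, by decide, d4_graphLike' graphD4A _ (by decide +kernel) (by decide +kernel)
        (by decide +kernel) (by decide +kernel)⟩
    · exact ⟨rfl, by decide, d4_graphLike' graphD4B _ (by decide +kernel) (by decide +kernel)
        (by decide +kernel) (by decide +kernel)⟩
    · exact ⟨rfl, by decide, d4_graphLike' graphD4E _ (by decide +kernel) (by decide +kernel)
        (by decide +kernel) (by decide +kernel)⟩
  · intro l hl hn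
    exact absurd hl hn

end Cfsg.Agent.Lib.Helper5.OPlus
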