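import Mathlib
import Cfsg.Agent.Lib.Helper5.OPlus.P2
set_option autoImplicit false
set_option linter.unusedSectionVars false
set_option linter.style.haveILetI false
set_option maxRecDepth 1000000
open Cfsg Cfsg.Lie

/-! The graph automorphisms of `D₄(q)` as a subgroup of the automorphism group. -/

namespace Cfsg.Agent.Lib.Helper5.OPlus

open Cfsg.Agent.Lib.Helper3.ChevM Cfsg.Agent.Lib.Helper3.ChevSp Cfsg.Agent.Lib.Helper3 ChevU ChevT ChevH
open Cfsg.Agent.Lib.Helper3.ChevAt Cfsg.Agent.Lib.Helper1 Cfsg.Agent.Lib.Helper3.ChevAut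

/-- the six symmetries of the diagram of `D₄` -/
def d4Lists : List (List ℕ) :=
  [[0, 1, 2, 3], [0, 1, 3, 2], [2, 1, 0, 3], [2, 1, 3, 0], [3, 1, 0, 2], [3, 1, 2, 0]]

theorem d4Lists_nodup : d4Lists.Nodup := by decide

theorem d4Lists_lt : ∀ l ∈ d4Lists, ∀ i < 4, l.getD i 0 < 4 := by decide

theorem d4Lists_mul : ∀ l₁ ∈ d4Lists, ∀ l₂ ∈ d4Lists, ∃ l₃ ∈ d4Lists,
    ∀ i < 4, l₁.getD (l₂.getD i 0) 0 = l₃.getD i 0 := by decide

theorem d4Lists_inv : ∀ l ∈ d4Lists, ∃ l' ∈ d4Lists,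
    ∀ i < 4, l.getD (l'.getD i 0) 0 = i := by decide

theorem d4Lists_ext : ∀ l ∈ d4Lists, ∀ l' ∈ d4Lists, (∀ i < 4, l.getD i 0 = l'.getD i 0) → l = l' := by
  decide

section
variable {K : Type*} [Field K]

/-- an automorphism along a map of the nodes, with trivial exponents -/
def IsG (γ : MulAut ↥(cdD4.D.group K)) (π : ℕ → ℕ) : Prop :=
  ∃ Gl : GraphLike relD4 K γ π, ∀ i, Gl.e i = 1

theorem isG_one : IsG (1 : MulAut ↥(cdD4.D.group K)) (fun i => i) :=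
  ⟨graphLikeOne relD4 K, fun _ => rfl⟩

theorem IsG.congr {γ : MulAut ↥(cdD4.D.group K)} {π π' : ℕ → ℕ} (h : IsG γ π)
    (hπ : ∀ i < 4, π i = π' i) : IsG γ π' := by
  obtain ⟨Gl, he⟩ := h
  exact ⟨Gl.congr hπ, he⟩

theorem IsG.mul {γ₁ γ₂ : MulAut ↥(cdD4.D.group K)} {π₁ π₂ : ℕ → ℕ} (h₁ : IsG γ₁ π₁) (h₂ : IsG γ₂ π₂)
    (hπ₂ : ∀ i < 4, π₂ i < 4) : IsG (γ₁ * γ₂) (fun i => π₁ (π₂ i)) := by
  obtain ⟨Gl₁, he₁⟩ := h₁
  obtain ⟨Gl₂, he₂⟩ := h₂
  refine ⟨GraphLike.comp genHypD4 Gl₁ Gl₂ hπ₂, fun i => ?_⟩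
  show Gl₂.e i * Gl₁.e (π₂ i) = 1
  rw [he₁, he₂]

theorem IsG.unique {γ γ' : MulAut ↥(cdD4.D.group K)} {π : ℕ → ℕ} (h : IsG γ π) (h' : IsG γ' π) :
    γ = γ' := by
  obtain ⟨Gl, he⟩ := h
  obtain ⟨Gl', he'⟩ := h'
  apply aut_eq_of_simple autHypD4
  intro i hi t
  constructor
  · rw [Gl.pos i hi, Gl'.pos i hi, he, he']
  · rw [Gl.neg i hi, Gl'.neg i hi, he, he']

theorem isG_of_data (G : GraphData cdD4) (l : List ℕ)
    (hs : graphSimpleCheck cdD4.D G.p G.rho G.eps = true)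
    (hpos : ∀ r < cdD4.D.nroots, cdD4.D.IsPosRoot r → cdD4.D.IsPosRoot (G.rho r))
    (hneg : ∀ r < cdD4.D.nroots, cdD4.D.IsNegRoot r → cdD4.D.IsNegRoot (G.rho r))
    (hl : ∀ i < cdD4.D.rank, G.p i = l.getD i 0) :
    IsG (G.aut relD4 : MulAut ↥(cdD4.D.group K)) (fun i => l.getD i 0) :=
  ⟨(graphLikeOfData autHypD4.A G hs hpos hneg).congr hl, fun _ => rfl⟩

theorem exists_isG : ∀ l ∈ d4Lists, ∃ γ : MulAut ↥(cdD4.D.group K), IsG γ (fun i => l.getD i 0) := by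
  intro l hl
  simp only [d4Lists, List.mem_cons, List.not_mem_nil, or_false] at hl
  rcases hl with rfl | rfl | rfl | rfl | rfl | rfl
  · exact ⟨1, isG_one.congr (by decide)⟩
  · exact ⟨_, isG_of_data graphD4C _ (by decide +kernel) (by decide +kernel) (by decide +kernel)
      (by decide +kernel)⟩
  · exact ⟨_, isG_of_data graphD4D _ (by decide +kernel) (by decide +kernel) (by decide +kernel)
      (by decide +kernel)⟩
  · exact ⟨_, isG_of_data graphD4A _ (by decide +kernel) (by decide +kernel) (by decide +kernel)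
      (by decide +kernel)⟩
  · exact ⟨_, isG_of_data graphD4B _ (by decide +kernel) (by decide +kernel) (by decide +kernel)
      (by decide +kernel)⟩
  · exact ⟨_, isG_of_data graphD4E _ (by decide +kernel) (by decide +kernel) (by decide +kernel)
      (by decide +kernel)⟩

/-- the group of graph automorphisms -/
def graphSub (K : Type*) [Field K] : Subgroup (MulAut ↥(cdD4.D.group K)) where
  carrier := {γ | ∃ l ∈ d4Lists, IsG γ (fun i => l.getD i 0)}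
  one_mem' := ⟨[0, 1, 2, 3], by decide, isG_one.congr (by decide)⟩
  mul_mem' := by
    rintro γ₁ γ₂ ⟨l₁, hl₁, h₁⟩ ⟨l₂, hl₂, h₂⟩
    obtain ⟨l₃, hl₃, h₃⟩ := d4Lists_mul l₁ hl₁ l₂ hl₂
    exact ⟨l₃, hl₃, (h₁.mul h₂ (d4Lists_lt l₂ hl₂)).congr h₃⟩
  inv_mem' := by
    rintro γ ⟨l, hl, h⟩
    obtain ⟨l', hl', h'⟩ := d4Lists_inv l hl
    obtain ⟨γ', hγ'⟩ := exists_isG (K := K) l' hl'
    have h1 : γ * γ' = 1 :=
      ((h.mul hγ' (d4Lists_lt l' hl')).congr h').unique isG_one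
    have h2 : γ⁻¹ = γ' := inv_eq_of_mul_eq_one_right h1
    rw [h2]
    exact ⟨l', hl', hγ'⟩

theorem mem_graphSub {γ : MulAut ↥(cdD4.D.group K)} :
    γ ∈ graphSub K ↔ ∃ l ∈ d4Lists, IsG γ (fun i => l.getD i 0) := Iff.rfl

theorem card_graphSub_le : Nat.card ↥(graphSub K) ≤ 6 := by
  classical
  have hch : ∀ γ : ↥(graphSub K), ∃ l : {l // l ∈ d4Lists}, IsG γ.1 (fun i => l.1.getD i 0) := by
    rintro ⟨γ, l, hl, h⟩
    exact ⟨⟨l, hl⟩, h⟩
  choose f hf using hch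
  have hinj : Function.Injective f := by
    intro γ γ' e
    apply Subtype.ext
    have h1 := hf γ
    have h2 := hf γ'
    rw [e] at h1
    exact h1.unique h2
  have hcard : Nat.card {l // l ∈ d4Lists} = 6 := by
    rw [Nat.card_eq_fintype_card, Fintype.card_of_subtype d4Lists.toFinset (by simp),
      List.toFinset_card_of_nodup d4Lists_nodup]
    rfl
  rw [← hcard]
  exact Nat.card_le_card_of_injective f hinj

end

end Cfsg.Agent.Lib.Helper5.OPlus
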