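import Mathlib
import Cfsg.Agent.Lib.Helper5.OPlus.D1
import Cfsg.Agent.Lib.Helper5.OFld7
set_option autoImplicit false
set_option linter.unusedSectionVars false
set_option linter.style.haveILetI false
set_option maxRecDepth 1000000
open Cfsg Cfsg.Lie

/-! Diagonal automorphisms of `D₄(q)` modulo inner automorphisms. -/

namespace Cfsg.Agent.Lib.Helper5.OPlus

open Cfsg.Agent.Lib.Helper3.ChevM Cfsg.Agent.Lib.Helper3.ChevSp Cfsg.Agent.Lib.Helper3 ChevU ChevT ChevH
open Cfsg.Agent.Lib.Helper3.ChevAt Cfsg.Agent.Lib.Helper1 Cfsg.Agent.Lib.Helper3.ChevAut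

/-- the Cartan matrix of `D₄` -/
def cartanD4 : Matrix (Fin 4) (Fin 4) ℤ := cartanMat cdD4.D

/-- twice the inverse of the Cartan matrix of `D₄` -/
def twoInvD4 : Matrix (Fin 4) (Fin 4) ℤ := !![2, 2, 1, 1; 2, 4, 2, 2; 1, 2, 2, 1; 1, 2, 1, 2]

theorem cartanD4_eq : cartanD4 = !![2, -1, 0, 0; -1, 2, -1, -1; 0, -1, 2, 0; 0, -1, 0, 2] := by
  decide +kernel

theorem twoInvD4_mul : twoInvD4 * cartanD4 = Matrix.diagonal fun _ : Fin 4 => ((2 : ℕ) : ℤ) := by
  rw [cartanD4_eq]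
  decide +kernel

section
variable {K : Type*} [Field K]

/-- squares are in the range of the Cartan matrix -/
theorem sq_mem_range (c : Fin 4 → Kˣ) :
    c * c ∈ (pw cartanD4 : (Fin 4 → Kˣ) →* (Fin 4 → Kˣ)).range := by
  refine ⟨pw twoInvD4 c, ?_⟩
  have h := pw_mul twoInvD4 cartanD4 c
  rw [twoInvD4_mul] at h
  rw [← h]
  funext j
  rw [pw_diagonal, Pi.mul_apply, pow_two]

/-- the invariants of the range of the Cartan matrix -/
theorem range_inv {c : Fin 4 → Kˣ}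
    (hc : c ∈ (pw cartanD4 : (Fin 4 → Kˣ) →* (Fin 4 → Kˣ)).range) :
    (∃ y : Kˣ, c 0 * c 2 = y * y) ∧ (∃ y : Kˣ, c 0 * c 3 = y * y) := by
  obtain ⟨z, rfl⟩ := hc
  have e00 : cartanD4 0 0 = 2 := by decide +kernel
  have e10 : cartanD4 1 0 = -1 := by decide +kernel
  have e20 : cartanD4 2 0 = 0 := by decide +kernel
  have e30 : cartanD4 3 0 = 0 := by decide +kernel
  have e02 : cartanD4 0 2 = 0 := by decide +kernel
  have e12 : cartanD4 1 2 = -1 := by decide +kernel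
  have e22 : cartanD4 2 2 = 2 := by decide +kernel
  have e32 : cartanD4 3 2 = 0 := by decide +kernel
  have e03 : cartanD4 0 3 = 0 := by decide +kernel
  have e13 : cartanD4 1 3 = -1 := by decide +kernel
  have e23 : cartanD4 2 3 = 0 := by decide +kernel
  have e33 : cartanD4 3 3 = 2 := by decide +kernel
  have h0 : pw cartanD4 z 0 = z 0 * z 0 * (z 1)⁻¹ := by
    rw [pw_apply, Fin.prod_univ_four, e00, e10, e20, e30, zpow_two, zpow_neg, zpow_one, zpow_zero,
      zpow_zero, mul_one, mul_one]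
  have h2 : pw cartanD4 z 2 = (z 1)⁻¹ * (z 2 * z 2) := by
    rw [pw_apply, Fin.prod_univ_four, e02, e12, e22, e32, zpow_two, zpow_neg, zpow_one, zpow_zero,
      zpow_zero, mul_one, one_mul]
  have h3 : pw cartanD4 z 3 = (z 1)⁻¹ * (z 3 * z 3) := by
    rw [pw_apply, Fin.prod_univ_four, e03, e13, e23, e33, zpow_two, zpow_neg, zpow_one, zpow_zero,
      zpow_zero, mul_one, one_mul]
  constructor
  · refine ⟨z 0 * (z 1)⁻¹ * z 2, ?_⟩
    rw [h0, h2]
    simp only [mul_assoc, mul_comm, mul_left_comm]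
  · refine ⟨z 0 * (z 1)⁻¹ * z 3, ?_⟩
    rw [h0, h3]
    simp only [mul_assoc, mul_comm, mul_left_comm]

end

end Cfsg.Agent.Lib.Helper5.OPlus
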