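import Mathlib

set_option autoImplicit false

/-! Abstract group theory for the outer automorphism group of `D₄(q)`. -/

namespace Cfsg.Agent.Lib.Helper5.OPlus

/-- a group of order `n!` with a core-free subgroup of index `n` is the symmetric group -/
theorem exists_perm_equiv_of_core {M : Type*} [Group M] [Finite M] (H : Subgroup M) (n : ℕ)
    (hcore : H.normalCore = ⊥) (hidx : H.index = n) (hcard : Nat.card M = n.factorial) :
    Nonempty (M ≃* Equiv.Perm (Fin n)) := by
  classical
  have hinj : Function.Injective (MulAction.toPermHom M (M ⧸ H)) := by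
    rw [← MonoidHom.ker_eq_bot_iff, ← Subgroup.normalCore_eq_ker, hcore]
  have hq : Nat.card (M ⧸ H) = n := hidx
  have hc2 : Nat.card (Equiv.Perm (M ⧸ H)) = n.factorial := by
    rw [Nat.card_perm, hq]
  haveI : Finite (Equiv.Perm (M ⧸ H)) := Nat.finite_of_card_ne_zero (by
    rw [hc2]; exact Nat.factorial_ne_zero n)
  have hbij : Function.Bijective (MulAction.toPermHom M (M ⧸ H)) := by
    rw [Nat.bijective_iff_injective_and_card]
    exact ⟨hinj, by rw [hcard, hc2]⟩
  have e1 : M ≃* Equiv.Perm (M ⧸ H) := MulEquiv.ofBijective _ hbij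
  have hq' : Nat.card (M ⧸ H) = Nat.card (Fin n) := by rw [hq, Nat.card_fin]
  haveI : Finite (M ⧸ H) := inferInstance
  obtain ⟨e2⟩ := (Finite.card_eq (α := M ⧸ H) (β := Fin n)).1 hq'
  exact ⟨e1.trans e2.permCongrHom⟩

end Cfsg.Agent.Lib.Helper5.OPlus
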