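import Mathlib
import Cfsg.Agent.Lib.Helper5.OPlus.G1

set_option autoImplicit false

/-! Abstract group theory for the outer automorphism group of `D₄(q)`: a group `O = D Γ Φ` with `D` normal,
`Φ` centralizing `D` and `Γ`, and orders as expected. -/

namespace Cfsg.Agent.Lib.Helper5.OPlus

variable {O : Type*} [Group O] [Finite O]

/-- the hypotheses -/
structure DecompHyp (D Γ Φ : Subgroup O) (a b f : ℕ) : Prop where
  hΦD : ∀ z ∈ Φ, ∀ d ∈ D, z * d = d * z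
  hΦΓ : ∀ z ∈ Φ, ∀ g ∈ Γ, z * g = g * z
  hgen : ∀ o : O, ∃ d ∈ D, ∃ g ∈ Γ, ∃ z ∈ Φ, o = d * g * z
  hD : Nat.card D ≤ a
  hΓ : Nat.card Γ ≤ b
  hΦ : Nat.card Φ ≤ f
  hO : Nat.card O = a * b * f

namespace DecompHyp

variable {D Γ Φ : Subgroup O} {a b f : ℕ} (h : DecompHyp D Γ Φ a b f)
include h

theorem bij : Function.Bijective (fun x : D × Γ × Φ => (x.1 : O) * x.2.1 * x.2.2) ∧
    Nat.card D = a ∧ Nat.card Γ = b ∧ Nat.card Φ = f := by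
  have hsurj : Function.Surjective (fun x : D × Γ × Φ => (x.1 : O) * x.2.1 * x.2.2) := by
    intro o
    obtain ⟨d, hd, g, hg, z, hz, rfl⟩ := h.hgen o
    exact ⟨⟨⟨d, hd⟩, ⟨g, hg⟩, ⟨z, hz⟩⟩, rfl⟩
  have h1 := Nat.card_le_card_of_surjective _ hsurj
  rw [Nat.card_prod, Nat.card_prod, h.hO] at h1
  have hD0 : 0 < Nat.card D := Nat.card_pos
  have hΓ0 : 0 < Nat.card Γ := Nat.card_pos
  have hΦ0 : 0 < Nat.card Φ := Nat.card_pos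
  have h2 : Nat.card D * (Nat.card Γ * Nat.card Φ) ≤ a * b * f := by
    rw [mul_assoc]
    exact Nat.mul_le_mul h.hD (Nat.mul_le_mul h.hΓ h.hΦ)
  have h3 : Nat.card D * (Nat.card Γ * Nat.card Φ) = a * b * f := le_antisymm h2 h1
  have hDa : Nat.card D = a := by
    by_contra hne
    have hlt : Nat.card D < a := lt_of_le_of_ne h.hD hne
    have : Nat.card D * (Nat.card Γ * Nat.card Φ) < a * (b * f) :=
      Nat.mul_lt_mul_of_lt_of_le hlt (Nat.mul_le_mul h.hΓ h.hΦ)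
        (Nat.mul_pos (lt_of_lt_of_le hΓ0 h.hΓ) (lt_of_lt_of_le hΦ0 h.hΦ))
    rw [← mul_assoc a b f] at this
    omega
  have hΓb : Nat.card Γ = b := by
    by_contra hne
    have hlt : Nat.card Γ < b := lt_of_le_of_ne h.hΓ hne
    have h4 : Nat.card Γ * Nat.card Φ < b * f := Nat.mul_lt_mul_of_lt_of_le hlt h.hΦ (lt_of_lt_of_le hΦ0 h.hΦ)
    have : Nat.card D * (Nat.card Γ * Nat.card Φ) < a * (b * f) := by
      rw [hDa]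
      exact Nat.mul_lt_mul_of_pos_left h4 (by rw [← hDa]; exact hD0)
    rw [← mul_assoc a b f] at this
    omega
  have hΦf : Nat.card Φ = f := by
    rw [hDa, hΓb, ← mul_assoc] at h3
    have hab : 0 < a * b := by rw [← hDa, ← hΓb]; exact Nat.mul_pos hD0 hΓ0
    exact Nat.eq_of_mul_eq_mul_left hab h3
  refine ⟨?_, hDa, hΓb, hΦf⟩
  rw [Nat.bijective_iff_surjective_and_card]
  refine ⟨hsurj, ?_⟩
  rw [Nat.card_prod, Nat.card_prod, h.hO, hDa, hΓb, hΦf, mul_assoc]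

theorem eq_of_mul_eq {d d' g g' z z' : O} (hd : d ∈ D) (hd' : d' ∈ D) (hg : g ∈ Γ) (hg' : g' ∈ Γ)
    (hz : z ∈ Φ) (hz' : z' ∈ Φ) (e : d * g * z = d' * g' * z') : d = d' ∧ g = g' ∧ z = z' := by
  have := h.bij.1.1 (a₁ := (⟨⟨d, hd⟩, ⟨g, hg⟩, ⟨z, hz⟩⟩ : D × Γ × Φ))
    (a₂ := (⟨⟨d', hd'⟩, ⟨g', hg'⟩, ⟨z', hz'⟩⟩ : D × Γ × Φ)) e
  simp only [Prod.mk.injEq, Subtype.mk.injEq] at this
  exact this

theorem inf_eq_bot : D ⊓ Γ = ⊥ := by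
  rw [eq_bot_iff]
  rintro x ⟨hxD, hxΓ⟩
  have := h.eq_of_mul_eq hxD D.one_mem Γ.one_mem hxΓ Φ.one_mem Φ.one_mem
    (by simp : x * 1 * 1 = 1 * x * 1)
  rw [Subgroup.mem_bot]
  exact this.1

theorem mem_sup [D.Normal] {x : O} : x ∈ D ⊔ Γ ↔ ∃ d ∈ D, ∃ g ∈ Γ, x = d * g := by
  rw [← SetLike.mem_coe, Subgroup.normal_mul, Set.mem_mul]
  constructor
  · rintro ⟨d, hd, g, hg, rfl⟩
    exact ⟨d, hd, g, hg, rfl⟩
  · rintro ⟨d, hd, g, hg, rfl⟩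
    exact ⟨d, hd, g, hg, rfl⟩

theorem sup_inf_eq_bot [D.Normal] : (D ⊔ Γ) ⊓ Φ = ⊥ := by
  rw [eq_bot_iff]
  rintro x ⟨hxN, hxΦ⟩
  obtain ⟨d, hd, g, hg, rfl⟩ := h.mem_sup.1 hxN
  have := h.eq_of_mul_eq hd D.one_mem hg Γ.one_mem Φ.one_mem hxΦ
    (by simp : d * g * 1 = 1 * 1 * (d * g))
  rw [Subgroup.mem_bot, this.1, this.2.1, one_mul]

theorem card_sup [D.Normal] : Nat.card ↥(D ⊔ Γ) = a * b := by
  have hbij : Function.Bijective (fun x : D × Γ =>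
      (⟨(x.1 : O) * x.2, h.mem_sup.2 ⟨x.1, x.1.2, x.2, x.2.2, rfl⟩⟩ : ↥(D ⊔ Γ))) := by
    constructor
    · rintro ⟨⟨d, hd⟩, ⟨g, hg⟩⟩ ⟨⟨d', hd'⟩, ⟨g', hg'⟩⟩ e
      have e' : d * g = d' * g' := congrArg Subtype.val e
      have := h.eq_of_mul_eq hd hd' hg hg' Φ.one_mem Φ.one_mem (by rw [mul_one, mul_one, e'])
      simp only [Prod.mk.injEq, Subtype.mk.injEq]
      exact ⟨this.1, this.2.1⟩
    · rintro ⟨x, hx⟩
      obtain ⟨d, hd, g, hg, rfl⟩ := h.mem_sup.1 hx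
      exact ⟨⟨⟨d, hd⟩, ⟨g, hg⟩⟩, rfl⟩
  rw [← Nat.card_congr (Equiv.ofBijective _ hbij), Nat.card_prod, h.bij.2.1, h.bij.2.2.1]

theorem comm_sup [D.Normal] {x z : O} (hx : x ∈ D ⊔ Γ) (hz : z ∈ Φ) : Commute x z := by
  obtain ⟨d, hd, g, hg, rfl⟩ := h.mem_sup.1 hx
  show d * g * z = z * (d * g)
  rw [mul_assoc, ← h.hΦΓ z hz g hg, ← mul_assoc, ← h.hΦD z hz d hd, mul_assoc]

/-- the direct product decomposition -/
theorem equiv [D.Normal] : Nonempty (O ≃* ↥(D ⊔ Γ) × ↥Φ) := by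
  let ψ : ↥(D ⊔ Γ) × ↥Φ →* O :=
    MonoidHom.noncommCoprod (D ⊔ Γ).subtype Φ.subtype (fun x z => h.comm_sup x.2 z.2)
  have hψ : ∀ x : ↥(D ⊔ Γ) × ↥Φ, ψ x = (x.1 : O) * x.2 := fun x => rfl
  have hinj : Function.Injective ψ := by
    rw [injective_iff_map_eq_one]
    rintro ⟨⟨x, hx⟩, ⟨z, hz⟩⟩ e
    rw [hψ] at e
    have e' : x * z = 1 := e
    have hxz : x = z⁻¹ := eq_inv_of_mul_eq_one_left e'
    have hxΦ : x ∈ (D ⊔ Γ) ⊓ Φ := ⟨hx, by rw [hxz]; exact Φ.inv_mem hz⟩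
    rw [h.sup_inf_eq_bot, Subgroup.mem_bot] at hxΦ
    subst hxΦ
    rw [one_mul] at e'
    subst e'
    rfl
  have hsurj : Function.Surjective ψ := by
    intro o
    obtain ⟨d, hd, g, hg, z, hz, rfl⟩ := h.hgen o
    exact ⟨⟨⟨d * g, h.mem_sup.2 ⟨d, hd, g, hg, rfl⟩⟩, ⟨z, hz⟩⟩, rfl⟩
  exact ⟨(MulEquiv.ofBijective ψ ⟨hinj, hsurj⟩).symm⟩

end DecompHyp

end Cfsg.Agent.Lib.Helper5.OPlus
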