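import Mathlib
import Cfsg.Agent.Lib.Helper5.OPlus.G2

set_option autoImplicit false

/-! Abstract group theory for the outer automorphism group of `D₄(q)`: the symmetric groups. -/

namespace Cfsg.Agent.Lib.Helper5.OPlus

variable {O : Type*} [Group O] [Finite O]

theorem card_subgroupOf_of_le {H N : Subgroup O} (hle : H ≤ N) :
    Nat.card ↥(H.subgroupOf N) = Nat.card ↥H :=
  Nat.card_congr (Subgroup.subgroupOfEquivOfLe hle).toEquiv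

theorem zmod_equiv_of_cyclic {Φ : Type*} [Group Φ] (hcyc : IsCyclic Φ) {f : ℕ} (hf : Nat.card Φ = f) :
    Nonempty (Φ ≃* Multiplicative (ZMod f)) := by
  have e := zmodCyclicMulEquiv hcyc
  rw [hf] at e
  exact ⟨e.symm⟩

/-- `S₄ × C_f` -/
theorem exists_equiv_S4 {D Γ Φ : Subgroup O} [D.Normal] {f : ℕ} (h : DecompHyp D Γ Φ 4 6 f)
    (hcyc : IsCyclic Φ) (hfaith : ∀ g ∈ Γ, (∀ d ∈ D, g * d = d * g) → g = 1) :
    Nonempty (O ≃* Equiv.Perm (Fin 4) × Multiplicative (ZMod f)) := by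
  obtain ⟨e1⟩ := h.equiv
  obtain ⟨e2⟩ := zmod_equiv_of_cyclic hcyc h.bij.2.2.2
  have hΓN : Γ ≤ D ⊔ Γ := le_sup_right
  have hDN : D ≤ D ⊔ Γ := le_sup_left
  have hcardN : Nat.card ↥(D ⊔ Γ) = Nat.factorial 4 := by rw [h.card_sup]; rfl
  have hcardH : Nat.card ↥(Γ.subgroupOf (D ⊔ Γ)) = 6 := by
    rw [card_subgroupOf_of_le hΓN, h.bij.2.2.1]
  have hidx : (Γ.subgroupOf (D ⊔ Γ)).index = 4 := by
    have := Subgroup.card_mul_index (Γ.subgroupOf (D ⊔ Γ))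
    rw [hcardH, h.card_sup] at this
    omega
  have hcore : (Γ.subgroupOf (D ⊔ Γ)).normalCore = ⊥ := by
    rw [eq_bot_iff]
    intro c hc
    rw [Subgroup.mem_bot]
    have hcΓ' : c ∈ Γ.subgroupOf (D ⊔ Γ) := Subgroup.normalCore_le _ hc
    have hcΓ : (c : O) ∈ Γ := hcΓ'
    have hcen : ∀ d ∈ D, (c : O) * d = d * c := by
      intro d hd
      have hcinv : c⁻¹ ∈ (Γ.subgroupOf (D ⊔ Γ)).normalCore := Subgroup.inv_mem _ hc
      have h1 : (⟨d, hDN hd⟩ : ↥(D ⊔ Γ)) * c⁻¹ * (⟨d, hDN hd⟩ : ↥(D ⊔ Γ))⁻¹ ∈ Γ.subgroupOf (D ⊔ Γ) :=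
        hcinv _
      have h2 : d * (c : O)⁻¹ * d⁻¹ ∈ Γ := h1
      have h3 : (c : O) * (d * (c : O)⁻¹ * d⁻¹) ∈ Γ := Γ.mul_mem hcΓ h2
      have h4 : (c : O) * (d * (c : O)⁻¹ * d⁻¹) ∈ D := by
        have : (c : O) * (d * (c : O)⁻¹ * d⁻¹) = ((c : O) * d * (c : O)⁻¹) * d⁻¹ := by group
        rw [this]
        exact D.mul_mem (Subgroup.Normal.conj_mem inferInstance d hd _) (D.inv_mem hd)
      have h5 : (c : O) * (d * (c : O)⁻¹ * d⁻¹) ∈ D ⊓ Γ := ⟨h4, h3⟩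
      rw [h.inf_eq_bot, Subgroup.mem_bot] at h5
      calc (c : O) * d = ((c : O) * (d * (c : O)⁻¹ * d⁻¹)) * (d * c) := by group
        _ = d * c := by rw [h5, one_mul]
    exact Subtype.ext (hfaith _ hcΓ hcen)
  obtain ⟨e3⟩ := exists_perm_equiv_of_core (Γ.subgroupOf (D ⊔ Γ)) 4 hcore hidx hcardN
  exact ⟨e1.trans (MulEquiv.prodCongr e3 e2)⟩

/-- `S₃ × C_f` -/
theorem exists_equiv_S3 {D Γ Φ : Subgroup O} [D.Normal] {f : ℕ} (h : DecompHyp D Γ Φ 1 6 f)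
    (hcyc : IsCyclic Φ) (g₁ g₂ : O) (hg₁ : g₁ ∈ Γ) (hg₂ : g₂ ∈ Γ) (hsq : g₁ * g₁ = 1) (hne : g₁ ≠ 1)
    (hnc : g₂ * g₁ * g₂⁻¹ ≠ g₁) :
    Nonempty (O ≃* Equiv.Perm (Fin 3) × Multiplicative (ZMod f)) := by
  obtain ⟨e1⟩ := h.equiv
  obtain ⟨e2⟩ := zmod_equiv_of_cyclic hcyc h.bij.2.2.2
  have hΓN : Γ ≤ D ⊔ Γ := le_sup_right
  have hcardN : Nat.card ↥(D ⊔ Γ) = Nat.factorial 3 := by rw [h.card_sup]; rfl
  have hzΓ : Subgroup.zpowers g₁ ≤ Γ := by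
    rw [Subgroup.zpowers_le]; exact hg₁
  have hzN : Subgroup.zpowers g₁ ≤ D ⊔ Γ := hzΓ.trans hΓN
  have hord : orderOf g₁ = 2 := orderOf_eq_prime (by rw [pow_two]; exact hsq) hne
  have hcardH : Nat.card ↥((Subgroup.zpowers g₁).subgroupOf (D ⊔ Γ)) = 2 := by
    rw [card_subgroupOf_of_le hzN, Nat.card_zpowers, hord]
  have hidx : ((Subgroup.zpowers g₁).subgroupOf (D ⊔ Γ)).index = 3 := by
    have := Subgroup.card_mul_index ((Subgroup.zpowers g₁).subgroupOf (D ⊔ Γ))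
    rw [hcardH, h.card_sup] at this
    omega
  have hmem : ∀ x : O, x ∈ Subgroup.zpowers g₁ → x = 1 ∨ x = g₁ := by
    intro x hx
    rw [Subgroup.mem_zpowers_iff] at hx
    obtain ⟨k, rfl⟩ := hx
    rcases Int.even_or_odd' k with ⟨j, rfl | rfl⟩
    · left
      rw [zpow_mul, zpow_two, hsq, one_zpow]
    · right
      rw [zpow_add, zpow_mul, zpow_two, hsq, one_zpow, one_mul, zpow_one]
  have hcore : ((Subgroup.zpowers g₁).subgroupOf (D ⊔ Γ)).normalCore = ⊥ := by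
    rw [eq_bot_iff]
    intro c hc
    rw [Subgroup.mem_bot]
    have hcH' : c ∈ (Subgroup.zpowers g₁).subgroupOf (D ⊔ Γ) := Subgroup.normalCore_le _ hc
    have hcH : (c : O) ∈ Subgroup.zpowers g₁ := hcH'
    rcases hmem _ hcH with h1 | h1
    · exact Subtype.ext h1
    · exfalso
      have h2 : (⟨g₂, hΓN hg₂⟩ : ↥(D ⊔ Γ)) * c * (⟨g₂, hΓN hg₂⟩ : ↥(D ⊔ Γ))⁻¹ ∈
          (Subgroup.zpowers g₁).subgroupOf (D ⊔ Γ) := hc _
      have h3 : g₂ * (c : O) * g₂⁻¹ ∈ Subgroup.zpowers g₁ := h2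
      rw [h1] at h3
      rcases hmem _ h3 with h4 | h4
      · apply hne
        calc g₁ = g₂⁻¹ * (g₂ * g₁ * g₂⁻¹) * g₂ := by group
          _ = 1 := by rw [h4]; group
      · exact hnc h4
  obtain ⟨e3⟩ := exists_perm_equiv_of_core ((Subgroup.zpowers g₁).subgroupOf (D ⊔ Γ)) 3 hcore hidx
    hcardN
  exact ⟨e1.trans (MulEquiv.prodCongr e3 e2)⟩

end Cfsg.Agent.Lib.Helper5.OPlus
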