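import Mathlib
import Cfsg.Agent.Lib.Helper5.OPlus.D2
import Cfsg.Agent.Lib.Helper5.OPlus.G3
set_option autoImplicit false
set_option linter.unusedSectionVars false
set_option linter.style.haveILetI false
set_option maxRecDepth 1000000
open Cfsg Cfsg.Lie

/-! The decomposition of the outer automorphism group of `D₄(q)`. -/

namespace Cfsg.Agent.Lib.Helper5.OPlus

open Cfsg.Agent.Lib.Helper3.ChevM Cfsg.Agent.Lib.Helper3.ChevSp Cfsg.Agent.Lib.Helper3 ChevU ChevT ChevH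
open Cfsg.Agent.Lib.Helper3.ChevAt Cfsg.Agent.Lib.Helper1 Cfsg.Agent.Lib.Helper3.ChevAut
open Cfsg.Agent.Lib.Helper5.OFld

section
variable {K : Type*} [Field K] [Fintype K]

/-- the quotient of an element by its image under a field automorphism is a square -/
theorem exists_sq_ratio (σ : K ≃+* K) (x : Kˣ) :
    ∃ y : Kˣ, Units.map (σ : K →* K) x * x⁻¹ = y * y := by
  by_cases hsq : IsSquare (x : K)
  · obtain ⟨w, hw⟩ := hsq
    have hw0 : w ≠ 0 := by
      rintro rfl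
      rw [mul_zero] at hw
      exact x.ne_zero hw
    have hx : x = Units.mk0 w hw0 * Units.mk0 w hw0 := Units.ext (by rw [hw]; rfl)
    refine ⟨Units.map (σ : K →* K) (Units.mk0 w hw0) * (Units.mk0 w hw0)⁻¹, ?_⟩
    conv_lhs => rw [hx]
    rw [map_mul, mul_inv, mul_mul_mul_comm]
  · have h2 : (2 : K) ≠ 0 := by
      intro h2
      apply hsq
      apply FiniteField.isSquare_of_char_two
      exact CharP.ringChar_of_prime_eq_zero Nat.prime_two (by exact_mod_cast h2)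
    have hσx : ¬ IsSquare (σ (x : K)) := by
      rintro ⟨w, hw⟩
      apply hsq
      refine ⟨σ.symm w, ?_⟩
      rw [← map_mul, ← hw, RingEquiv.symm_apply_apply]
    have hinv : ¬ IsSquare ((x : K)⁻¹) := by
      rintro ⟨w, hw⟩
      apply hsq
      refine ⟨w⁻¹, ?_⟩
      rw [← mul_inv, ← hw, inv_inv]
    obtain ⟨w, hw⟩ := isSquare_mul_of_not h2 hσx hinv
    have hw0 : w ≠ 0 := by
      rintro rfl
      rw [mul_zero] at hw
      have h1 : σ (x : K) ≠ 0 := by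
        rw [Ne, map_eq_zero]
        exact x.ne_zero
      exact mul_ne_zero h1 (inv_ne_zero x.ne_zero) hw
    refine ⟨Units.mk0 w hw0, ?_⟩
    apply Units.ext
    rw [Units.val_mul, Units.val_mul, Units.val_inv_eq_inv_val]
    exact hw

end

section
variable (K : Type*) [Field K]

/-- the quotient map to the outer automorphism group -/
def qD4 : MulAut ↥(cdD4.D.group K) →* Cfsg.Out ↥(cdD4.D.group K) :=
  QuotientGroup.mk' (Cfsg.Inn ↥(cdD4.D.group K))

/-- the diagonal automorphisms, modulo the inner ones -/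
noncomputable def Dbar : Subgroup (Cfsg.Out ↥(cdD4.D.group K)) :=
  (dAutHom genHypD4.V relD4 : (Fin cdD4.D.rank → Kˣ) →* MulAut ↥(cdD4.D.group K)).range.map (qD4 K)

/-- the graph automorphisms, modulo the inner ones -/
noncomputable def Gbar : Subgroup (Cfsg.Out ↥(cdD4.D.group K)) := (graphSub K).map (qD4 K)

/-- the field automorphisms, modulo the inner ones -/
noncomputable def Fbar : Subgroup (Cfsg.Out ↥(cdD4.D.group K)) :=
  (fAutHom cdD4.D : (K ≃+* K) →* MulAut ↥(cdD4.D.group K)).range.map (qD4 K)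

end

section
variable {K : Type*} [Field K]

theorem qD4_conj (a : ↥(cdD4.D.group K)) : qD4 K (MulAut.conj a) = 1 :=
  (QuotientGroup.eq_one_iff _).mpr ⟨a, rfl⟩

theorem qD4_dAut_of_mem (c : Fin 4 → Kˣ)
    (hc : c ∈ (pw cartanD4 : (Fin 4 → Kˣ) →* (Fin 4 → Kˣ)).range) :
    qD4 K (dAut genHypD4.V relD4 c) = 1 := by
  obtain ⟨z, rfl⟩ := hc
  have := dAutG_pw (K := K) genHypD4 z
  rw [show dAut genHypD4.V relD4 (pw cartanD4 z) = dAut genHypD4.V relD4 (pw (cartanMat cdD4.D) z) from rfl,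
    this]
  exact qD4_conj _

theorem mem_Dbar {o : Cfsg.Out ↥(cdD4.D.group K)} :
    o ∈ Dbar K ↔ ∃ c : Fin 4 → Kˣ, o = qD4 K (dAut genHypD4.V relD4 c) := by
  constructor
  · rintro ⟨_, ⟨c, rfl⟩, rfl⟩
    exact ⟨c, rfl⟩
  · rintro ⟨c, rfl⟩
    exact ⟨_, ⟨c, rfl⟩, rfl⟩

theorem mem_Fbar {o : Cfsg.Out ↥(cdD4.D.group K)} :
    o ∈ Fbar K ↔ ∃ σ : K ≃+* K, o = qD4 K (fAut cdD4.D σ) := by
  constructor
  · rintro ⟨_, ⟨σ, rfl⟩, rfl⟩
    exact ⟨σ, rfl⟩
  · rintro ⟨σ, rfl⟩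
    exact ⟨_, ⟨σ, rfl⟩, rfl⟩

theorem mem_Gbar {o : Cfsg.Out ↥(cdD4.D.group K)} :
    o ∈ Gbar K ↔ ∃ γ ∈ graphSub K, o = qD4 K γ := by
  constructor
  · rintro ⟨γ, hγ, rfl⟩
    exact ⟨γ, hγ, rfl⟩
  · rintro ⟨γ, hγ, rfl⟩
    exact ⟨γ, hγ, rfl⟩

end

end Cfsg.Agent.Lib.Helper5.OPlus
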