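import Mathlib
import Cfsg.Agent.Lib.Helper5.OPlus.D3
set_option autoImplicit false
set_option linter.unusedSectionVars false
set_option linter.style.haveILetI false
set_option maxRecDepth 1000000
open Cfsg Cfsg.Lie

/-! The decomposition of the outer automorphism group of `D₄(q)`: the hypotheses of the abstract theorem. -/

namespace Cfsg.Agent.Lib.Helper5.OPlus

open Cfsg.Agent.Lib.Helper3.ChevM Cfsg.Agent.Lib.Helper3.ChevSp Cfsg.Agent.Lib.Helper3 ChevU ChevT ChevH
open Cfsg.Agent.Lib.Helper3.ChevAt Cfsg.Agent.Lib.Helper1 Cfsg.Agent.Lib.Helper3.ChevAut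
open Cfsg.Agent.Lib.Helper5.OFld

section
variable {K : Type*} [Field K] [Fintype K]

theorem qD4_fAut_mul_dAut (σ : K ≃+* K) (c : Fin 4 → Kˣ) :
    qD4 K (fAut cdD4.D σ) * qD4 K (dAut genHypD4.V relD4 c) =
      qD4 K (dAut genHypD4.V relD4 c) * qD4 K (fAut cdD4.D σ) := by
  have h1 := fAut_mul_dAut (K := K) genHypD4 σ c
  have hy : ∀ i : Fin 4, ∃ y : Kˣ, Units.map (σ : K →* K) (c i) * (c i)⁻¹ = y * y :=
    fun i => exists_sq_ratio σ (c i)
  choose y hy using hy
  have h2 : (fun i => Units.map (σ : K →* K) (c i)) = c * (y * y) := by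
    funext i
    rw [Pi.mul_apply, Pi.mul_apply, ← hy i, mul_comm, inv_mul_cancel_right]
  have h3 : dAut genHypD4.V relD4 (fun i => Units.map (σ : K →* K) (c i)) =
      dAut genHypD4.V relD4 c * dAut genHypD4.V relD4 (y * y) := by
    have : dAut genHypD4.V relD4 (c * (y * y)) =
        dAut genHypD4.V relD4 c * dAut genHypD4.V relD4 (y * y) := dAut_mul genHypD4.V relD4 c (y * y)
    rw [← this]
    exact congrArg (dAut genHypD4.V relD4) h2
  rw [← map_mul, h1, map_mul]
  have h4 : qD4 K (dAut genHypD4.V relD4 fun i => Units.map (σ : K →* K) (c i)) =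
      qD4 K (dAut genHypD4.V relD4 c) := by
    have h5 := congrArg (qD4 K) h3
    rw [map_mul, qD4_dAut_of_mem (y * y) (sq_mem_range y), mul_one] at h5
    exact h5
  rw [h4]

theorem card_Gbar_le : Nat.card ↥(Gbar K) ≤ 6 := by
  have h1 : Nat.card ↥(Gbar K) ≤ Nat.card ↥(graphSub K) :=
    Nat.card_le_card_of_surjective ((qD4 K).subgroupMap (graphSub K))
      (MonoidHom.subgroupMap_surjective _ _)
  exact h1.trans card_graphSub_le

theorem card_Fbar_le : Nat.card ↥(Fbar K) ≤ Nat.card (K ≃+* K) := by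
  have h1 : Fbar K = ((qD4 K).comp (fAutHom cdD4.D)).range := by
    unfold Fbar
    rw [MonoidHom.range_comp]
  rw [h1]
  haveI : Finite (K ≃+* K) := Finite.of_injective (fun σ => (σ : K → K)) DFunLike.coe_injective
  exact Nat.card_le_card_of_surjective ((qD4 K).comp (fAutHom cdD4.D)).rangeRestrict
    (MonoidHom.rangeRestrict_surjective _)

theorem isCyclic_Fbar : IsCyclic ↥(Fbar K) := by
  have h1 : Fbar K = ((qD4 K).comp (fAutHom cdD4.D)).range := by
    unfold Fbar
    rw [MonoidHom.range_comp]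
  rw [h1]
  haveI := isCyclic_ringAut K
  exact isCyclic_of_surjective ((qD4 K).comp (fAutHom cdD4.D)).rangeRestrict
    (MonoidHom.rangeRestrict_surjective _)

theorem card_Dbar_le : Nat.card ↥(Dbar K) ≤
    (pw cartanD4 : (Fin 4 → Kˣ) →* (Fin 4 → Kˣ)).range.index := by
  let φ₀ : (Fin 4 → Kˣ) →* Cfsg.Out ↥(cdD4.D.group K) :=
    (qD4 K).comp (dAutHom genHypD4.V relD4)
  have hφ₀ : (pw cartanD4 : (Fin 4 → Kˣ) →* (Fin 4 → Kˣ)).range ≤ φ₀.ker := by
    intro c hc
    rw [MonoidHom.mem_ker]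
    exact qD4_dAut_of_mem c hc
  let φ₁ := QuotientGroup.lift (pw cartanD4 : (Fin 4 → Kˣ) →* (Fin 4 → Kˣ)).range φ₀ hφ₀
  have h1 : Dbar K = φ₁.range := by
    ext o
    rw [mem_Dbar]
    constructor
    · rintro ⟨c, rfl⟩
      exact ⟨QuotientGroup.mk c, rfl⟩
    · rintro ⟨x, rfl⟩
      obtain ⟨c, rfl⟩ := QuotientGroup.mk_surjective x
      exact ⟨c, rfl⟩
  rw [h1]
  exact Nat.card_le_card_of_surjective φ₁.rangeRestrict (MonoidHom.rangeRestrict_surjective _)

end

end Cfsg.Agent.Lib.Helper5.OPlus
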