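import Mathlib
import Cfsg.Agent.Lib.Helper5.OPlus.D4
set_option autoImplicit false
set_option linter.unusedSectionVars false
set_option linter.style.haveILetI false
set_option maxRecDepth 1000000
open Cfsg Cfsg.Lie

/-! The decomposition of the outer automorphism group of `D₄(q)`: generation, normality, orders. -/

namespace Cfsg.Agent.Lib.Helper5.OPlus

open Cfsg.Agent.Lib.Helper3.ChevM Cfsg.Agent.Lib.Helper3.ChevSp Cfsg.Agent.Lib.Helper3 ChevU ChevT ChevH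
open Cfsg.Agent.Lib.Helper3.ChevAt Cfsg.Agent.Lib.Helper1 Cfsg.Agent.Lib.Helper3.ChevAut
open Cfsg.Agent.Lib.Helper5.OFld

theorem d4Lists_inv' : ∀ l ∈ d4Lists, ∃ l' ∈ d4Lists,
    (∀ i < 4, l.getD (l'.getD i 0) 0 = i) ∧ (∀ i < 4, l'.getD (l.getD i 0) 0 = i) := by decide

section
variable {K : Type*} [Field K] [Fintype K]

/-- every automorphism is the product of an inner, a diagonal, a graph and a field automorphism -/
theorem aut_decomp_d4 (p : ℕ) [Fact p.Prime] [CharP K p] (θ : MulAut ↥(cdD4.D.group K)) :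
    ∃ (a : ↥(cdD4.D.group K)) (γ : MulAut ↥(cdD4.D.group K)) (c : Fin 4 → Kˣ) (σ : K ≃+* K),
      γ ∈ graphSub K ∧ θ = MulAut.conj a * dAut genHypD4.V relD4 c * γ * fAut cdD4.D σ := by
  have hreal : ∀ l ∈ bondHypD4.L,
      (∃ γ : MulAut ↥(cdD4.D.group K), γ ∈ graphSub K ∧
        Nonempty (GraphLike relD4 K γ (fun i => l.getD i 0))) ∨
      (∀ (θ : MulAut ↥(cdD4.D.group K)) (T : RootAct relD4 K θ),
        ¬ ∀ i < cdD4.D.rank, T.p i = l.getD i 0) := by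
    intro l hl
    left
    have hl' : l ∈ d4Lists := hl
    obtain ⟨γ, h⟩ := exists_isG (K := K) l hl'
    obtain ⟨Gl, he⟩ := h
    exact ⟨γ, ⟨l, hl', Gl, he⟩, ⟨Gl⟩⟩
  obtain ⟨a, γ, c, σ, hγ, e⟩ := aut_decomp' (K := K) bondHypD4 p (d4_sylow (F := K) p)
    (fun γ => γ ∈ graphSub K) hreal θ
  exact ⟨a, γ, c, σ, hγ, e⟩

theorem out_gen (p : ℕ) [Fact p.Prime] [CharP K p] (o : Cfsg.Out ↥(cdD4.D.group K)) :
    ∃ d ∈ Dbar K, ∃ g ∈ Gbar K, ∃ z ∈ Fbar K, o = d * g * z := by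
  obtain ⟨θ, rfl⟩ := QuotientGroup.mk_surjective o
  obtain ⟨a, γ, c, σ, hγ, e⟩ := aut_decomp_d4 p θ
  refine ⟨qD4 K (dAut genHypD4.V relD4 c), mem_Dbar.2 ⟨c, rfl⟩, qD4 K γ, mem_Gbar.2 ⟨γ, hγ, rfl⟩,
    qD4 K (fAut cdD4.D σ), mem_Fbar.2 ⟨σ, rfl⟩, ?_⟩
  show qD4 K θ = _
  rw [e, map_mul, map_mul, map_mul, qD4_conj, one_mul]

/-- the hypotheses of the abstract structure theorem -/
theorem outStruct_hyp (p : ℕ) [Fact p.Prime] [CharP K p] :
    OutStruct.Hyp (Cfsg.Inn ↥(cdD4.D.group K))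
      (dAutHom genHypD4.V relD4 : (Fin cdD4.D.rank → Kˣ) →* MulAut ↥(cdD4.D.group K))
      (fAutHom cdD4.D : (K ≃+* K) →* MulAut ↥(cdD4.D.group K))
      (fun γ : ↥(graphSub K) => (γ : MulAut ↥(cdD4.D.group K))) := by
  refine ⟨?_, ?_, ?_, ?_⟩
  · intro σ c
    exact ⟨_, fAut_mul_dAut (K := K) genHypD4 σ c⟩
  · rintro ⟨γ, l, hl, Gl, he⟩ c
    obtain ⟨l', hl', h1, h2⟩ := d4Lists_inv' l hl
    exact Gl.mul_dAut genHypD4 (d4Lists_lt l hl) (fun i => l'.getD i 0) (d4Lists_lt l' hl') h2 c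
  · rintro ⟨γ, l, hl, Gl, he⟩ σ
    exact (Gl.fAut_comm genHypD4 (d4Lists_lt l hl) σ).symm
  · intro θ
    obtain ⟨a, γ, c, σ, hγ, e⟩ := aut_decomp_d4 p θ
    exact ⟨MulAut.conj a, ⟨a, rfl⟩, c, ⟨γ, hγ⟩, σ, e⟩

theorem Dbar_normal (p : ℕ) [Fact p.Prime] [CharP K p] : (Dbar K).Normal :=
  OutStruct.normal_map_δ (outStruct_hyp p)

/-- the hypotheses of the decomposition theorem -/
theorem decomp_d4 (p f : ℕ) [Fact p.Prime] [CharP K p] (hK : Fintype.card K = p ^ f) :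
    DecompHyp (Dbar K) (Gbar K) (Fbar K) (Nat.gcd 2 (p ^ f - 1) ^ 2) 6 f := by
  have h2 : Nat.card K = p ^ f := by rw [Nat.card_eq_fintype_card]; exact hK
  have h3 := card_ringAut_prime (F := K) p h2
  refine ⟨?_, ?_, out_gen p, ?_, card_Gbar_le, ?_, ?_⟩
  · intro z hz d hd
    obtain ⟨σ, rfl⟩ := mem_Fbar.1 hz
    obtain ⟨c, rfl⟩ := mem_Dbar.1 hd
    exact qD4_fAut_mul_dAut σ c
  · intro z hz g hg
    obtain ⟨σ, rfl⟩ := mem_Fbar.1 hz
    obtain ⟨γ, ⟨l, hl, Gl, he⟩, rfl⟩ := mem_Gbar.1 hg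
    rw [← map_mul, ← map_mul, Gl.fAut_comm genHypD4 (d4Lists_lt l hl) σ]
  · refine card_Dbar_le.trans (le_of_eq ?_)
    have h4 := index_range_pw (K := K) (l := 4) smPD4 cartanD4 smQD4 smPiD4 smQiD4 smDD4
      (by decide +kernel) (by decide +kernel) (by decide +kernel) (by decide +kernel)
    rw [h4, Fin.prod_univ_four, hK]
    have e : ∀ k : Fin 4, smDD4 k = (#[1, 1, 2, 2] : Array ℕ).getD k.val 0 := fun k => rfl
    simp only [e]
    simp [Nat.gcd_comm, sq]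
  · rw [← h3]
    exact card_Fbar_le
  · rw [d4_card_out p f hK]
    ring

end

end Cfsg.Agent.Lib.Helper5.OPlus
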