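import Mathlib
import Cfsg.Agent.Lib.Helper5.OPlus.D5
set_option autoImplicit false
set_option linter.unusedSectionVars false
set_option linter.style.haveILetI false
set_option maxRecDepth 1000000
open Cfsg Cfsg.Lie

/-! The action of the graph automorphisms of `D₄(q)` on the diagonal automorphisms. -/

namespace Cfsg.Agent.Lib.Helper5.OPlus

open Cfsg.Agent.Lib.Helper3.ChevM Cfsg.Agent.Lib.Helper3.ChevSp Cfsg.Agent.Lib.Helper3 ChevU ChevT ChevH
open Cfsg.Agent.Lib.Helper3.ChevAt Cfsg.Agent.Lib.Helper1 Cfsg.Agent.Lib.Helper3.ChevAut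
open Cfsg.Agent.Lib.Helper5.OFld

section
variable {K : Type*} [Field K]

/-- the tuple permuted along a list -/
def permT (l' : List ℕ) (hl' : ∀ i < cdD4.D.rank, l'.getD i 0 < cdD4.D.rank)
    (c : Fin cdD4.D.rank → Kˣ) : Fin cdD4.D.rank → Kˣ :=
  fun j => c ⟨l'.getD j.val 0, hl' j.val j.isLt⟩

/-- conjugation of a diagonal automorphism by a graph automorphism -/
theorem IsG.mul_dAut {γ : MulAut ↥(cdD4.D.group K)} {l l' : List ℕ}
    (hl : ∀ i < cdD4.D.rank, l.getD i 0 < cdD4.D.rank)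
    (hl' : ∀ i < cdD4.D.rank, l'.getD i 0 < cdD4.D.rank) (h : IsG γ (fun i => l.getD i 0))
    (hinv : ∀ i < cdD4.D.rank, l'.getD (l.getD i 0) 0 = i) (c : Fin cdD4.D.rank → Kˣ) :
    γ * dAut genHypD4.V relD4 c = dAut genHypD4.V relD4 (permT l' hl' c) * γ := by
  obtain ⟨Gl, he⟩ := h
  apply aut_eq_of_simple autHypD4
  intro i hi t
  have hi4 : i < cdD4.D.rank := hi
  have hs := relD4.simple_lt i hi
  have hns := relD4.neg_lt _ hs
  have hs' := relD4.simple_lt _ (hl i hi4)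
  have hns' := relD4.neg_lt _ hs'
  have hc : permT l' hl' c ⟨l.getD i 0, hl i hi4⟩ = c ⟨i, hi⟩ := by
    unfold permT
    congr 1
    exact Fin.ext (hinv i hi4)
  constructor
  · rw [ex_mul_aut _ _ (relD4.xU_mem_group _ hs _), ex_mul_aut _ _ (relD4.xU_mem_group _ hs _),
      ex_dAut_xU genHypD4.V relD4 _ _ hs, Gl.pos i hi, Gl.pos i hi, ex_dAut_xU genHypD4.V relD4 _ _ hs',
      wtC_simple genHypD4.V _ i hi, wtC_simple genHypD4.V _ _ (hl i hi4), he, pow_one, pow_one, hc]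
  · rw [ex_mul_aut _ _ (relD4.xU_mem_group _ hns _), ex_mul_aut _ _ (relD4.xU_mem_group _ hns _),
      ex_dAut_xU genHypD4.V relD4 _ _ hns, Gl.neg i hi, Gl.neg i hi, ex_dAut_xU genHypD4.V relD4 _ _ hns',
      wtC_neg genHypD4.V _ _ hs, wtC_neg genHypD4.V _ _ hs',
      wtC_simple genHypD4.V _ i hi, wtC_simple genHypD4.V _ _ (hl i hi4), he, pow_one, pow_one, hc]

/-- a diagonal automorphism which is inner comes from the range of the Cartan matrix -/
theorem mem_range_of_qD4_dAut {c : Fin 4 → Kˣ} (h : qD4 K (dAut genHypD4.V relD4 c) = 1) :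
    c ∈ (pw cartanD4 : (Fin 4 → Kˣ) →* (Fin 4 → Kˣ)).range := by
  have h1 : dAut genHypD4.V relD4 c ∈ Cfsg.Inn ↥(cdD4.D.group K) := (QuotientGroup.eq_one_iff _).1 h
  obtain ⟨a, ha⟩ := h1
  have h2 : fAut cdD4.D (1 : K ≃+* K) = MulAut.conj a⁻¹ * dAut genHypD4.V relD4 c := by
    rw [fAut_one, ← ha, map_inv, inv_mul_cancel]
  exact (field_eq_inner_diagG genHypD4 1 a⁻¹ c h2).2

end

end Cfsg.Agent.Lib.Helper5.OPlus
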