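import Mathlib
import Cfsg.Agent.Lib.Helper5.OPlus.D6
set_option autoImplicit false
set_option linter.unusedSectionVars false
set_option linter.style.haveILetI false
set_option maxRecDepth 1000000
open Cfsg Cfsg.Lie

/-! The graph automorphisms of `D₄(q)`, `q` odd, act faithfully on the diagonal automorphisms modulo
inner automorphisms. -/

namespace Cfsg.Agent.Lib.Helper5.OPlus

open Cfsg.Agent.Lib.Helper3.ChevM Cfsg.Agent.Lib.Helper3.ChevSp Cfsg.Agent.Lib.Helper3 ChevU ChevT ChevH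
open Cfsg.Agent.Lib.Helper3.ChevAt Cfsg.Agent.Lib.Helper1 Cfsg.Agent.Lib.Helper3.ChevAut
open Cfsg.Agent.Lib.Helper5.OFld

section
variable {K : Type*} [Field K]

/-- the tuple with `ν` at one place -/
def oneAt (ν : Kˣ) (k : Fin 4) : Fin 4 → Kˣ := fun j => if j = k then ν else 1

theorem not_sq_inv {ν : Kˣ} (hν : ¬ IsSquare (ν : K)) : ¬ ∃ y : Kˣ, ν⁻¹ = y * y := by
  rintro ⟨y, hy⟩
  apply hν
  refine ⟨((y⁻¹ : Kˣ) : K), ?_⟩
  rw [← Units.val_mul, ← mul_inv, ← hy, inv_inv]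

/-- the permuted tuple, with indices in `Fin 4` -/
def permT4 (l' : List ℕ) (hl' : ∀ i < 4, l'.getD i 0 < 4) (c : Fin 4 → Kˣ) : Fin 4 → Kˣ :=
  fun j => c ⟨l'.getD j.val 0, hl' j.val j.isLt⟩

/-- if a graph automorphism centralizes the diagonal automorphisms modulo inner automorphisms, the
permuted tuples are congruent to the original ones -/
theorem perm_mem_range {γ : MulAut ↥(cdD4.D.group K)} {l l' : List ℕ}
    (hl : ∀ i < 4, l.getD i 0 < 4) (hl' : ∀ i < 4, l'.getD i 0 < 4)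
    (h : IsG γ (fun i => l.getD i 0)) (hinv : ∀ i < 4, l'.getD (l.getD i 0) 0 = i)
    (hcen : ∀ d ∈ Dbar K, qD4 K γ * d = d * qD4 K γ) (c : Fin 4 → Kˣ) :
    permT4 l' hl' c * c⁻¹ ∈ (pw cartanD4 : (Fin 4 → Kˣ) →* (Fin 4 → Kˣ)).range := by
  apply mem_range_of_qD4_dAut
  have hP : permT l' hl' c = permT4 l' hl' c := rfl
  have h1 := h.mul_dAut hl hl' hinv c
  have h2 := hcen _ (mem_Dbar.2 ⟨c, rfl⟩)
  rw [← map_mul, h1, map_mul] at h2
  have h3 : qD4 K (dAut genHypD4.V relD4 (permT l' hl' c)) = qD4 K (dAut genHypD4.V relD4 c) :=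
    mul_right_cancel h2
  have h4 : dAut genHypD4.V relD4 (permT4 l' hl' c * c⁻¹) =
      dAut genHypD4.V relD4 (permT l' hl' c) * (dAut genHypD4.V relD4 c)⁻¹ := by
    have e1 := dAut_mul (K := K) genHypD4.V relD4 (permT4 l' hl' c) c⁻¹
    have e2 : dAut genHypD4.V relD4 c⁻¹ = (dAut genHypD4.V relD4 c)⁻¹ :=
      map_inv (dAutHom (K := K) genHypD4.V relD4) c
    rw [e2] at e1
    exact e1
  rw [h4, map_mul, map_inv, h3, mul_inv_cancel]

end

section
variable {K : Type*} [Field K] [Fintype K]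

theorem gbar_faithful (h2 : (2 : K) ≠ 0) :
    ∀ g ∈ Gbar K, (∀ d ∈ Dbar K, g * d = d * g) → g = 1 := by
  intro g hg hcen
  obtain ⟨γ, ⟨l, hl, hG⟩, rfl⟩ := mem_Gbar.1 hg
  have hch : ringChar K ≠ 2 := by
    intro h
    apply h2
    have := CharP.cast_eq_zero K (ringChar K)
    rw [h] at this
    exact_mod_cast this
  obtain ⟨a, ha⟩ := FiniteField.exists_nonsquare hch
  have ha0 : a ≠ 0 := by
    rintro rfl
    exact ha ⟨0, by simp⟩
  obtain ⟨ν, hν⟩ : ∃ ν : Kˣ, ¬ IsSquare (ν : K) := ⟨Units.mk0 a ha0, ha⟩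
  have hns := not_sq_inv hν
  simp only [d4Lists, List.mem_cons, List.not_mem_nil, or_false] at hl
  rcases hl with rfl | rfl | rfl | rfl | rfl | rfl
  · have : γ = 1 := hG.unique (isG_one.congr (by decide))
    rw [this, map_one]
  · exfalso
    have hr := perm_mem_range (l' := [0, 1, 3, 2]) (by decide) (by decide) hG (by decide) hcen
      (oneAt ν 2)
    obtain ⟨y, hy⟩ := (range_inv hr).1
    apply hns
    refine ⟨y, ?_⟩
    rw [← hy]
    simp [permT4, oneAt]
  · exfalso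
    have hr := perm_mem_range (l' := [2, 1, 0, 3]) (by decide) (by decide) hG (by decide) hcen
      (oneAt ν 0)
    obtain ⟨y, hy⟩ := (range_inv hr).2
    apply hns
    refine ⟨y, ?_⟩
    rw [← hy]
    simp [permT4, oneAt]
  · exfalso
    have hr := perm_mem_range (l' := [3, 1, 0, 2]) (by decide) (by decide) hG (by decide) hcen
      (oneAt ν 0)
    obtain ⟨y, hy⟩ := (range_inv hr).2
    apply hns
    refine ⟨y, ?_⟩
    rw [← hy]
    simp [permT4, oneAt]
  · exfalso
    have hr := perm_mem_range (l' := [2, 1, 3, 0]) (by decide) (by decide) hG (by decide) hcen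
      (oneAt ν 0)
    obtain ⟨y, hy⟩ := (range_inv hr).1
    apply hns
    refine ⟨y, ?_⟩
    rw [← hy]
    simp [permT4, oneAt]
  · exfalso
    have hr := perm_mem_range (l' := [3, 1, 2, 0]) (by decide) (by decide) hG (by decide) hcen
      (oneAt ν 0)
    obtain ⟨y, hy⟩ := (range_inv hr).1
    apply hns
    refine ⟨y, ?_⟩
    rw [← hy]
    simp [permT4, oneAt]

end

end Cfsg.Agent.Lib.Helper5.OPlus
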