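import Mathlib
import Cfsg.Agent.Lib.Helper5.OFld8
import Cfsg.Agent.Lib.Helper5.PGO15

set_option autoImplicit false

/-! The order of `Aut(PΩ⁺_{2m}(q))` for `m ≥ 5`. -/

namespace Cfsg.Agent.Lib.Helper5.OPlus

open Matrix Cfsg.Agent.Lib.Helper5.PGO Cfsg.Agent.Lib.Helper5.OAut Cfsg.Agent.Lib.Helper5.OFld
open Cfsg.Agent.Lib.Helper2 Cfsg.Agent.Lib.Helper2.QuadStd Cfsg.Agent.Lib.Helper5.QuadGlue

variable {F : Type*} [Field F] [Fintype F]

theorem lag_plus {m : ℕ} (hm : 5 ≤ m)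
    (T : Submodule F (Fin m ⊕ Fin m → F))
    (hT : ∀ x ∈ T, QP m F x = 0)
    (hperp : ∀ y, (∀ x ∈ T, QuadraticMap.polar (⇑(QP m F)) x y = 0) → y ∈ T) :
    5 ≤ Module.finrank F ↥T := by
  have h1 := two_mul_finrank_of_lagrangian (QP_nondeg (F := F) m) T hT hperp
  rw [card_plus] at h1
  omega

/-- the order of `Aut(PΩ⁺_{2m}(q))`, `m ≥ 5` -/
theorem card_aut_plus_ge5 {p f : ℕ} [Fact p.Prime] (hf : 1 ≤ f)
    (hF : Fintype.card F = p ^ f) {m : ℕ} (hm : 5 ≤ m) :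
    Nat.card (MulAut (Cfsg.POmega F (Cfsg.quadFormPlus m F))) =
      (if p = 2 then 2 else (if Even (m * (p ^ f - 1) / 2) then 8 else 4)) * f *
        Nat.card (Cfsg.POmega F (Cfsg.quadFormPlus m F)) := by
  classical
  have hp' : p.Prime := Fact.out
  haveI := PSL2Aut.charP_of_card hf hF
  have hQ := QP_nondeg (F := F) m
  have hn : 7 ≤ Fintype.card (Fin m ⊕ Fin m) := by rw [card_plus]; omega
  have hinv : GalInv (⇑(QP m F)) := by rw [QP_coe]; exact galInv_plus m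
  have h1 := card_aut_of_relIndex p hQ hn (lag_plus hm) (fun σ => ⟨1, pair_std hinv σ⟩)
  rw [(PSL2Aut.ringAut_cyclic_card hf hF).2] at h1
  rw [QP_coe] at h1
  rw [h1]
  congr 2
  rw [← QP_coe]
  by_cases hp : p = 2
  · rw [if_pos hp]
    have h2 : (2 : F) = 0 := by
      have := CharP.cast_eq_zero F p
      rw [hp] at this
      exact_mod_cast this
    exact relIndex_inn_pgo_two h2 hQ hn
  · rw [if_neg hp]
    have hodd : Odd (p ^ f) := (hp'.odd_of_ne_two hp).pow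
    obtain ⟨hA, hB⟩ := structure_plus hF hodd (by omega : 4 ≤ m)
    have hiff : Even (m * (p ^ f - 1) / 2) ↔ ¬ (Odd m ∧ p ^ f % 4 = 3) := even_half_iff hodd m
    by_cases hc : Odd m ∧ p ^ f % 4 = 3
    · rw [if_neg (by rw [hiff]; exact not_not.2 hc)]
      obtain ⟨φ, hφs, hφk⟩ := hA hc
      rw [Subgroup.relIndex, ← hφk, Subgroup.index_ker, MonoidHom.range_eq_top.2 hφs,
        Nat.card_congr (Subgroup.topEquiv (G := Multiplicative (ZMod 2 × ZMod 2))).toEquiv]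
      exact IsKleinFour.card_four
    · rw [if_pos (hiff.2 hc)]
      obtain ⟨φ, hφs, hφk⟩ := hB hc
      rw [Subgroup.relIndex, ← hφk, Subgroup.index_ker, MonoidHom.range_eq_top.2 hφs,
        Nat.card_congr (Subgroup.topEquiv (G := DihedralGroup 4)).toEquiv, DihedralGroup.nat_card]

end Cfsg.Agent.Lib.Helper5.OPlus
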