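import Mathlib
import Cfsg.Agent.Lib.Helper5.OPlus.P1
import Cfsg.Agent.Lib.Helper5.OPlus.P2
import Cfsg.Agent.Lib.Helper3.PO9
import Cfsg.Agent.Lib.Helper9.OutEx1

set_option autoImplicit false

/-! The order of `Aut(PΩ⁺_8(q))` and of `Aut(PΩ⁺_{2m}(q))` in general. -/

namespace Cfsg.Agent.Lib.Helper5.OPlus

open Matrix Cfsg.Agent.Lib.Helper5.PGO Cfsg.Agent.Lib.Helper5.OAut Cfsg.Agent.Lib.Helper5.OFld
open Cfsg.Agent.Lib.Helper2 Cfsg.Agent.Lib.Helper2.QuadStd Cfsg.Agent.Lib.Helper5.QuadGlue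

variable {F : Type*} [Field F] [Fintype F]

theorem gcd_two_pred_pow {p f : ℕ} (hp : p.Prime) (hf : 1 ≤ f) :
    Nat.gcd 2 (p ^ f - 1) = if p = 2 then 1 else 2 := by
  by_cases h : p = 2
  · rw [if_pos h, h]
    have h1 : 1 ≤ 2 ^ f := Nat.one_le_two_pow
    have h2 : (2 ^ f - 1) % 2 = 1 := by
      obtain ⟨k, rfl⟩ : ∃ k, f = k + 1 := ⟨f - 1, by omega⟩
      rw [pow_succ]
      omega
    have h3 : Nat.Coprime 2 (2 ^ f - 1) := by
      rw [Nat.coprime_two_left, Nat.odd_iff]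
      exact h2
    exact h3
  · rw [if_neg h]
    have hodd : Odd (p ^ f) := (hp.odd_of_ne_two h).pow
    have h1 : 2 ∣ p ^ f - 1 := by
      obtain ⟨k, hk⟩ := hodd
      rw [hk]
      exact ⟨k, by omega⟩
    exact Nat.gcd_eq_left h1

/-- the order of `Aut(PΩ⁺_8(q))` -/
theorem card_aut_plus_four {p f : ℕ} [Fact p.Prime] (hf : 1 ≤ f)
    (hF : Fintype.card F = p ^ f) :
    Nat.card (MulAut (Cfsg.POmega F (Cfsg.quadFormPlus 4 F))) =
      3 * (if p = 2 then 2 else 8) * f * Nat.card (Cfsg.POmega F (Cfsg.quadFormPlus 4 F)) := by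
  classical
  have hp' : p.Prime := Fact.out
  haveI := PSL2Aut.charP_of_card hf hF
  obtain ⟨e⟩ := Cfsg.Agent.Lib.Helper3.PO.d4_iso (F := F)
  have hout : Nat.card (Cfsg.Out (Cfsg.POmega F (Cfsg.quadFormPlus 4 F))) =
      6 * Nat.gcd 2 (p ^ f - 1) ^ 2 * f := by
    rw [← d4_card_out (F := F) p f hF]
    exact Nat.card_congr (Cfsg.Agent.H9Out.outCongr e.symm).toEquiv
  have hQ := QP_nondeg (F := F) 4
  have hn : 7 ≤ Fintype.card (Fin 4 ⊕ Fin 4) := by rw [card_plus]; norm_num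
  have hinn := card_inn hQ hn
  rw [QP_coe] at hinn
  rw [Subgroup.card_eq_card_quotient_mul_card_subgroup
    (Cfsg.Inn (Cfsg.POmega F (Cfsg.quadFormPlus 4 F))), hinn]
  have : Nat.card (MulAut (Cfsg.POmega F (Cfsg.quadFormPlus 4 F)) ⧸
      Cfsg.Inn (Cfsg.POmega F (Cfsg.quadFormPlus 4 F))) =
      6 * Nat.gcd 2 (p ^ f - 1) ^ 2 * f := hout
  rw [this, gcd_two_pred_pow hp' hf]
  by_cases h : p = 2
  · rw [if_pos h, if_pos h]
    ring
  · rw [if_neg h, if_neg h]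
    ring

/-- the order of `Aut(PΩ⁺_{2m}(q))` -/
theorem card_aut_plus {p f : ℕ} [Fact p.Prime] (hf : 1 ≤ f)
    (hF : Fintype.card F = p ^ f) {m : ℕ} (hm : 4 ≤ m) :
    Nat.card (MulAut (Cfsg.POmega F (Cfsg.quadFormPlus m F))) =
      (if m = 4 then 3 else 1) * (if p = 2 then 2 else (if Even (m * (p ^ f - 1) / 2) then 8 else 4)) *
        f * Nat.card (Cfsg.POmega F (Cfsg.quadFormPlus m F)) := by
  by_cases h4 : m = 4
  · subst h4
    rw [if_pos rfl, card_aut_plus_four hf hF]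
    have he : Even (4 * (p ^ f - 1) / 2) := by
      have : 4 * (p ^ f - 1) / 2 = 2 * (p ^ f - 1) := by omega
      rw [this]
      exact even_two_mul _
    rw [if_pos he]
  · rw [if_neg h4, one_mul]
    exact card_aut_plus_ge5 hf hF (by omega)

end Cfsg.Agent.Lib.Helper5.OPlus
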