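import Mathlib
import Cfsg.Agent.Lib.Helper5.OPlus.D7
import Cfsg.Agent.Lib.Helper5.OPlus.P3
set_option autoImplicit false
set_option linter.unusedSectionVars false
set_option linter.style.haveILetI false
set_option maxRecDepth 1000000
open Cfsg Cfsg.Lie

/-! The outer automorphism group of `D₄(q)` and of `PΩ⁺_8(q)`. -/

namespace Cfsg.Agent.Lib.Helper5.OPlus

open Cfsg.Agent.Lib.Helper3.ChevM Cfsg.Agent.Lib.Helper3.ChevSp Cfsg.Agent.Lib.Helper3 ChevU ChevT ChevH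
open Cfsg.Agent.Lib.Helper3.ChevAt Cfsg.Agent.Lib.Helper1 Cfsg.Agent.Lib.Helper3.ChevAut
open Cfsg.Agent.Lib.Helper5.OFld

section
variable {K : Type*} [Field K] [Fintype K]

/-- graph automorphisms along different maps of the nodes are different modulo inner automorphisms -/
theorem nodes_eq_of_qD4_eq {γ γ' : MulAut ↥(cdD4.D.group K)} {l l' : List ℕ}
    (hl : l ∈ d4Lists) (hl' : l' ∈ d4Lists) (h : IsG γ (fun i => l.getD i 0))
    (h' : IsG γ' (fun i => l'.getD i 0)) (e : qD4 K γ = qD4 K γ') : l = l' := by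
  obtain ⟨Gl, -⟩ := h
  obtain ⟨Gl', -⟩ := h'
  have h1 : γ⁻¹ * γ' ∈ Cfsg.Inn ↥(cdD4.D.group K) := by
    rw [← QuotientGroup.eq]
    exact e
  obtain ⟨a, ha⟩ := h1
  have h2 : γ⁻¹ * γ' = MulAut.conj a * dAut genHypD4.V relD4 (1 : Fin cdD4.D.rank → Kˣ) *
      fAut cdD4.D (1 : K ≃+* K) := by
    rw [dAut_one, fAut_one, mul_one, mul_one, ← ha]
  have h3 := Gl.nodes_eq' genHypD4 Gl' (d4Lists_lt l hl) (d4Lists_lt l' hl') 1 1 a h2
  exact d4Lists_ext l hl l' hl' h3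

/-- the outer automorphism group of `D₄(q)`, `q` odd -/
theorem out_d4_odd (p f : ℕ) [Fact p.Prime] [CharP K p] (hf : 1 ≤ f)
    (hK : Fintype.card K = p ^ f) (hp : p ≠ 2) :
    Nonempty (Cfsg.Out ↥(cdD4.D.group K) ≃* Equiv.Perm (Fin 4) × Multiplicative (ZMod f)) := by
  have hp' : p.Prime := Fact.out
  have h := decomp_d4 p f hK
  rw [gcd_two_pred_pow hp' hf, if_neg hp] at h
  have h2 : (2 : K) ≠ 0 := by
    intro h2
    have h3 : ((2 : ℕ) : K) = 0 := by exact_mod_cast h2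
    rw [CharP.cast_eq_zero_iff K p] at h3
    exact hp ((Nat.prime_dvd_prime_iff_eq hp' Nat.prime_two).1 h3)
  haveI := Dbar_normal (K := K) p
  exact exists_equiv_S4 h isCyclic_Fbar (gbar_faithful h2)

/-- the outer automorphism group of `D₄(q)`, `q` even -/
theorem out_d4_even (f : ℕ) [CharP K 2] (hf : 1 ≤ f) (hK : Fintype.card K = 2 ^ f) :
    Nonempty (Cfsg.Out ↥(cdD4.D.group K) ≃* Equiv.Perm (Fin 3) × Multiplicative (ZMod f)) := by
  haveI : Fact (Nat.Prime 2) := ⟨Nat.prime_two⟩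
  have h := decomp_d4 2 f hK
  rw [gcd_two_pred_pow Nat.prime_two hf, if_pos rfl] at h
  haveI := Dbar_normal (K := K) 2
  obtain ⟨γ₁, h₁⟩ := exists_isG (K := K) [0, 1, 3, 2] (by decide)
  obtain ⟨γ₂, h₂⟩ := exists_isG (K := K) [2, 1, 0, 3] (by decide)
  have hm₁ : γ₁ ∈ graphSub K := ⟨_, by decide, h₁⟩
  have hm₂ : γ₂ ∈ graphSub K := ⟨_, by decide, h₂⟩
  have hsq₁ : γ₁ * γ₁ = 1 := ((h₁.mul h₁ (by decide)).congr (by decide)).unique isG_one
  have hsq₂ : γ₂ * γ₂ = 1 := ((h₂.mul h₂ (by decide)).congr (by decide)).unique isG_one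
  have hinv₂ : γ₂⁻¹ = γ₂ := inv_eq_of_mul_eq_one_right hsq₂
  have hconj : IsG (γ₂ * γ₁ * γ₂⁻¹) (fun i => [3, 1, 2, 0].getD i 0) := by
    rw [hinv₂]
    exact ((h₂.mul h₁ (by decide)).mul h₂ (by decide)).congr (by decide)
  refine exists_equiv_S3 h isCyclic_Fbar (qD4 K γ₁) (qD4 K γ₂) (mem_Gbar.2 ⟨γ₁, hm₁, rfl⟩)
    (mem_Gbar.2 ⟨γ₂, hm₂, rfl⟩) ?_ ?_ ?_
  · rw [← map_mul, hsq₁, map_one]
  · intro e
    have e' : qD4 K γ₁ = qD4 K (1 : MulAut ↥(cdD4.D.group K)) := by rw [e, map_one]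
    have := nodes_eq_of_qD4_eq (by decide) (by decide) h₁
      (isG_one.congr (π' := fun i => [0, 1, 2, 3].getD i 0) (by decide)) e'
    exact absurd this (by decide)
  · intro e
    rw [← map_inv, ← map_mul, ← map_mul] at e
    have := nodes_eq_of_qD4_eq (by decide) (by decide) hconj h₁ e
    exact absurd this (by decide)

end

end Cfsg.Agent.Lib.Helper5.OPlus
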