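import Mathlib
import Cfsg.Agent.Lib.Helper5.OFld54

set_option autoImplicit false

/-! Field automorphisms of prime order of the plus type orthogonal groups: preparations (the order of a
standard field automorphism without any hypothesis on the Witt index, and the diagonal similarity
over the subfield of index two). -/

namespace Cfsg.Agent.Lib.Helper5.OPlus

open Matrix Module Cfsg.Agent.Lib.Helper5.PGO Cfsg.Agent.Lib.Helper5.OAut
open Cfsg.Agent.Lib.Helper5.PSLCoset Cfsg.Agent.Lib.Helper5.SplitConj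
open Cfsg.Agent.Lib.Helper2 Cfsg.Agent.Lib.Helper2.CDG Cfsg.Agent.Lib.Helper2.OrthCard
open Cfsg.Agent.Lib.Helper5.OrthCls Cfsg.Agent.Lib.Helper5.MaxTS
open Cfsg.Agent.Lib.Helper5.QuadGlue Cfsg.Agent.Lib.Helper2.QuadStd
open Cfsg.Agent.Lib.Helper5.SpinorDiag Cfsg.Agent.Lib.Helper5.PlusLevi
open Cfsg.Agent.Lib.Helper5.PSpField Cfsg.Agent.Lib.Helper2.Dickson
open Cfsg.Agent.Lib.Helper5.OmegaCrit Cfsg.Agent.Lib.Helper2.Spinor Cfsg.Agent.Lib.Helper5.OFld

section Order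
variable {F : Type*} [Field F] [Fintype F] {ι : Type} [Fintype ι] [DecidableEq ι]
variable {Q : QuadraticForm F (ι → F)}

/-- the order of a standard field automorphism -/
theorem orderOf_PhiS_std' (p : ℕ) [Fact p.Prime] [CharP F p]
    (hQ : (QuadraticMap.polarBilin Q).Nondegenerate) (hn : 7 ≤ Fintype.card ι)
    {σ : F ≃+* F} (hstd : Cfsg.IsSemisimilarityPair (⇑Q) (1 : GL ι F) σ) :
    orderOf (PhiS 1 σ hstd) = orderOf σ := by
  rw [orderOf_eq_orderOf_iff]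
  intro k
  constructor
  · intro h
    rw [PhiS_pow hstd k] at h
    exact sigma_eq_one_of_PhiS p hQ hn _ h
  · intro h
    rw [PhiS_pow hstd k, PhiS_congr (twGL_one σ k) h _ pair_one]
    exact PhiS_one _

end Order

section Dnu
variable {F F₀ : Type*} [Field F] [Fintype F] [DecidableEq F] [Field F₀] [Fintype F₀]
  [DecidableEq F₀] {m : ℕ}

theorem embGO_dnuGO (ι₀ : F₀ →+* F) (ν₀ : F₀ˣ) :
    embGO ι₀ (QP_extV ι₀ m) (dnuGO m ν₀) = dnuGO m (Units.map (ι₀ : F₀ →* F) ν₀) := by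
  apply Subtype.ext
  apply Units.ext
  rw [embGO_coe]
  show ((dnu m ν₀ : GL (Fin m ⊕ Fin m) F₀) : Matrix (Fin m ⊕ Fin m) (Fin m ⊕ Fin m) F₀).map ι₀ =
    ((dnu m (Units.map (ι₀ : F₀ →* F) ν₀) : GL (Fin m ⊕ Fin m) F) :
      Matrix (Fin m ⊕ Fin m) (Fin m ⊕ Fin m) F)
  rw [dnu_coe, dnu_coe]
  ext i j
  rw [Matrix.map_apply, Matrix.diagonal_apply, Matrix.diagonal_apply]
  by_cases hij : i = j
  · rw [if_pos hij, if_pos hij]
    rcases i with i | i
    · rfl
    · exact map_one ι₀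
  · rw [if_neg hij, if_neg hij, map_zero]

theorem dnuGO_mul_self (c : Fˣ) :
    dnuGO m (c * c) = scalGO (QP m F) c * incl (⇑(QP m F)) (levi (scalHom c : GL (Fin m) F)) := by
  apply Subtype.ext
  apply Units.ext
  show ((dnu m (c * c) : GL (Fin m ⊕ Fin m) F) : Matrix (Fin m ⊕ Fin m) (Fin m ⊕ Fin m) F) =
    ((scalHom c : GL (Fin m ⊕ Fin m) F) : Matrix (Fin m ⊕ Fin m) (Fin m ⊕ Fin m) F) *
      ((leviGL (scalHom c : GL (Fin m) F) : GL (Fin m ⊕ Fin m) F) :
        Matrix (Fin m ⊕ Fin m) (Fin m ⊕ Fin m) F)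
  rw [dnu_coe, leviGL_coe, ← map_inv, scalHom_coe, scalHom_coe, scalHom_coe]
  simp only [Matrix.scalar_apply]
  rw [Matrix.diagonal_transpose, Matrix.fromBlocks_diagonal, Matrix.diagonal_mul_diagonal]
  congr 1
  funext i
  rcases i with i | i
  · simp
  · simp

/-- the criterion for the diagonal similarity with multiplier `c²` to induce an inner automorphism -/
theorem Phi_dnuGO_mem_inn_iff (h2 : (2 : F) ≠ 0) (hm : 4 ≤ m)
    (hneg : negOne (QP m F) ∈ commutator ↥(Cfsg.isometryGroup F ⇑(QP m F))) (c : Fˣ) :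
    Phi (⇑(QP m F)) (dnuGO m (c * c)) ∈ Cfsg.Inn (Cfsg.POmega F ⇑(QP m F)) ↔
      IsSquare ((c : F) ^ m) := by
  have hm1 : 1 ≤ m := by omega
  have hQ := QP_nondeg (F := F) m
  have hQ0 := QP_ne_zero (F := F) hm1
  have hn : 7 ≤ Fintype.card (Fin m ⊕ Fin m) := by rw [card_plus]; omega
  rw [dnuGO_mul_self, map_mul, MonoidHom.mem_ker.1 (scal_le_ker ⟨c, rfl⟩), one_mul]
  have hdet : ((scalHom c : GL (Fin m) F) : Matrix (Fin m) (Fin m) F).det = (c : F) ^ m :=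
    det_scalHom_fin c
  rw [← hdet, ← levi_mem_iff_odd h2 hm1]
  constructor
  · intro h
    exact mem_of_Phi_incl_mem_inn hQ hQ0 hn hneg _ h
  · intro h
    rw [inn_eq]
    exact ⟨_, ⟨_, h, rfl⟩, rfl⟩

/-- evaluation of the criterion -/
theorem dnu_crit_eval (h2 : (2 : F) ≠ 0) (ι₀ : F₀ →+* F)
    (hcard : Fintype.card F = Fintype.card F₀ ^ 2) (m : ℕ) (c : F) (ν₀ : F₀)
    (hν₀ : ¬ IsSquare ν₀) (hc : c * c = ι₀ ν₀) :
    IsSquare (c ^ m) ↔ ¬ (Odd m ∧ Fintype.card F₀ % 4 = 1) := by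
  have hcsq := isSquare_sqrt_iff h2 ι₀ hcard c ν₀ hν₀ hc
  have h2' : (2 : F₀) ≠ 0 := by
    intro h
    apply h2
    rw [← map_ofNat ι₀, h, map_zero]
  have hodd₀ : Fintype.card F₀ % 2 = 1 :=
    FiniteField.odd_card_of_char_ne_two (ringChar_ne_two_of h2')
  have hc0 : c ≠ 0 := by
    rintro rfl
    rw [mul_zero] at hc
    apply hν₀
    have : ν₀ = 0 := by
      apply ι₀.injective
      rw [← hc, map_zero]
    rw [this]
    exact ⟨0, by ring⟩
  rcases Nat.even_or_odd m with hev | hod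
  · constructor
    · rintro - ⟨ho, -⟩
      exact (Nat.not_even_iff_odd.2 ho) hev
    · intro _
      obtain ⟨k, rfl⟩ := hev
      exact ⟨c ^ k, pow_add _ _ _⟩
  · obtain ⟨k, rfl⟩ := hod
    have hiff : IsSquare (c ^ (2 * k + 1)) ↔ IsSquare c := by
      have e : c ^ (2 * k + 1) = c ^ k * c ^ k * c := by ring
      rw [e]
      exact isSquare_sq_mul_iff (c ^ k) c (pow_ne_zero _ hc0)
    rw [hiff, hcsq]
    constructor
    · rintro h ⟨-, h'⟩
      omega
    · intro h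
      have : ¬ Fintype.card F₀ % 4 = 1 := fun h' => h ⟨⟨k, rfl⟩, h'⟩
      omega

end Dnu

end Cfsg.Agent.Lib.Helper5.OPlus
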