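import Mathlib
import Cfsg.Agent.Lib.Helper5.OPlus.F1

set_option autoImplicit false

/-! Standard field automorphisms of prime order of the plus type orthogonal groups: the centralizer
in the inner-diagonal group and the number of classes. -/

namespace Cfsg.Agent.Lib.Helper5.OPlus

open Matrix Module Cfsg.Agent.Lib.Helper5.PGO Cfsg.Agent.Lib.Helper5.OAut
open Cfsg.Agent.Lib.Helper5.PSLCoset Cfsg.Agent.Lib.Helper5.SplitConj
open Cfsg.Agent.Lib.Helper2 Cfsg.Agent.Lib.Helper2.CDG Cfsg.Agent.Lib.Helper2.OrthCard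
open Cfsg.Agent.Lib.Helper5.OrthCls Cfsg.Agent.Lib.Helper5.MaxTS
open Cfsg.Agent.Lib.Helper5.QuadGlue Cfsg.Agent.Lib.Helper2.QuadStd
open Cfsg.Agent.Lib.Helper5.SpinorDiag Cfsg.Agent.Lib.Helper5.PlusLevi
open Cfsg.Agent.Lib.Helper5.PSpField Cfsg.Agent.Lib.Helper2.Dickson
open Cfsg.Agent.Lib.Helper5.OmegaCrit Cfsg.Agent.Lib.Helper2.Spinor Cfsg.Agent.Lib.Helper5.OFld

section Main
variable {F : Type*} [Field F] [Fintype F] {m : ℕ}

set_option maxHeartbeats 1600000 in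
/-- the centralizer of a standard field automorphism of prime order -/
theorem plus_field_centralizer {p f : ℕ} [Fact p.Prime] (hF : Fintype.card F = p ^ f) (hf : 1 ≤ f)
    (hm : 4 ≤ m) (σ : F ≃+* F)
    (hstd : Cfsg.IsSemisimilarityPair (⇑(QP m F)) (1 : GL (Fin m ⊕ Fin m) F) σ)
    (r : ℕ) (hr : r.Prime) (hxr : orderOf (PhiS 1 σ hstd) = r)
    (F₀ : Type*) [Field F₀] [Fintype F₀] (hF₀ : Fintype.card F₀ = p ^ (f / r)) :
    r ∣ f ∧ Nonempty (↥(inndiagQ (⇑(QP m F)) ⊓ Subgroup.centralizer {PhiS 1 σ hstd}) ≃*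
      ↥(inndiagQ (⇑(QP m F₀)))) := by
  classical
  haveI := PSL2Aut.charP_of_card hf hF
  have hm1 : 1 ≤ m := by omega
  have hQ := QP_nondeg (F := F) m
  have hQ₀ := QP_nondeg (F := F₀) m
  have hn : 7 ≤ Fintype.card (Fin m ⊕ Fin m) := by rw [card_plus]; omega
  have hσr : orderOf σ = r := by rw [← orderOf_PhiS_std' p hQ hn hstd]; exact hxr
  obtain ⟨hrf, -⟩ := card_fixed hF σ r hσr hr.pos
  obtain ⟨ι₀, hι⟩ := exists_embedding_fixed hF σ r hσr hr.pos F₀ hF₀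
  have hcompat := QP_extV (F := F) (F₀ := F₀) ι₀ m
  refine ⟨hrf, ?_⟩
  by_cases h2 : (2 : F) = 0
  · have h2' : (2 : F₀) = 0 := by
      apply ι₀.injective
      rw [map_ofNat, h2, map_zero]
    obtain ⟨e2⟩ := centralizer_equiv_sub hQ hQ₀ hn hι r hσr hr.pos hcompat hstd
      ((Cfsg.Inn (Cfsg.POmega F ⇑(QP m F))).comap (Phi (⇑(QP m F))))
      ((Cfsg.Inn (Cfsg.POmega F₀ ⇑(QP m F₀))).comap (Phi (⇑(QP m F₀))))
      (fun g₀ => by
        rw [Subgroup.mem_comap, Subgroup.mem_comap]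
        exact Phi_embGO_mem_inn_iff h2 hQ hQ₀ hn hcompat (QP_ne_zero hm1) g₀)
      (by
        rintro _ ⟨c, rfl⟩
        rw [Subgroup.mem_comap]
        have : Phi (⇑(QP m F)) (scalGO (QP m F) c) = 1 := scal_le_ker ⟨c, rfl⟩
        rw [this]
        exact Subgroup.one_mem _)
    rw [Subgroup.map_comap_eq, Subgroup.map_comap_eq, ← pgoAut_eq, ← pgoAut_eq,
      inf_eq_right.2 inn_le_pgo, inf_eq_right.2 inn_le_pgo,
      ← inndiagQ_plus_two h2 hm, ← inndiagQ_plus_two h2' hm] at e2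
    exact ⟨e2⟩
  · have h2' : (2 : F₀) ≠ 0 := by
      intro h
      apply h2
      rw [← map_ofNat ι₀, h, map_zero]
    obtain ⟨e2⟩ := centralizer_equiv_sub hQ hQ₀ hn hι r hσr hr.pos hcompat hstd
      (GOp (QP m F) (QP_ne_zero hm1) m) (GOp (QP m F₀) (QP_ne_zero hm1) m)
      (fun g₀ => by
        unfold GOp
        rw [MonoidHom.mem_ker, MonoidHom.mem_ker]
        exact epsHom_embGO_iff (QP_ne_zero hm1) (QP_ne_zero hm1) hcompat m g₀)
      (by
        rintro _ ⟨c, rfl⟩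
        unfold GOp
        rw [MonoidHom.mem_ker]
        exact eps_scal (QP_ne_zero hm1) (card_plus m) c)
    have hi1 : (GOp (QP m F) (QP_ne_zero hm1) m).map (Phi (⇑(QP m F))) =
        idg (QP m F) (QP_ne_zero hm1) m := rfl
    have hi2 : (GOp (QP m F₀) (QP_ne_zero hm1) m).map (Phi (⇑(QP m F₀))) =
        idg (QP m F₀) (QP_ne_zero hm1) m := rfl
    rw [hi1, hi2, ← inndiagQ_plus hm1 h2, ← inndiagQ_plus hm1 h2'] at e2
    exact ⟨e2⟩

set_option maxHeartbeats 1600000 in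
/-- the class of a standard field automorphism of prime order does not split if the order is odd
or the characteristic is two -/
theorem plus_field_split_one {p f : ℕ} [Fact p.Prime] (hF : Fintype.card F = p ^ f) (hf : 1 ≤ f)
    (hm : 4 ≤ m) (σ : F ≃+* F)
    (hstd : Cfsg.IsSemisimilarityPair (⇑(QP m F)) (1 : GL (Fin m ⊕ Fin m) F) σ)
    (r : ℕ) (hr : r.Prime) (hxr : orderOf (PhiS 1 σ hstd) = r)
    (F₀ : Type*) [Field F₀] [Fintype F₀] (hF₀ : Fintype.card F₀ = p ^ (f / r))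
    (hcase : Odd r ∨ p = 2) :
    Cfsg.splitClassCount (inndiagQ (⇑(QP m F))) (Cfsg.Inn (Cfsg.POmega F ⇑(QP m F)))
      (PhiS 1 σ hstd) = 1 := by
  classical
  haveI := PSL2Aut.charP_of_card hf hF
  have hm1 : 1 ≤ m := by omega
  have hQ := QP_nondeg (F := F) m
  have hQ₀ := QP_nondeg (F := F₀) m
  have hn : 7 ≤ Fintype.card (Fin m ⊕ Fin m) := by rw [card_plus]; omega
  have hσr : orderOf σ = r := by rw [← orderOf_PhiS_std' p hQ hn hstd]; exact hxr
  obtain ⟨ι₀, hι⟩ := exists_embedding_fixed hF σ r hσr hr.pos F₀ hF₀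
  have hcompat := QP_extV (F := F) (F₀ := F₀) ι₀ m
  have hσpow : σ ^ r = 1 := by rw [← hσr]; exact pow_orderOf_eq_one σ
  by_cases h2 : (2 : F) = 0
  · rw [inndiagQ_plus_two h2 hm]
    exact splitClassCount_eq_one _ _ _ (fun y hy => hy)
  · have hoddr : Odd r := by
      rcases hcase with h | h
      · exact h
      · exfalso
        apply h2
        have := CharP.cast_eq_zero F p
        rw [h] at this
        exact_mod_cast this
    have h2' : (2 : F₀) ≠ 0 := by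
      intro h
      apply h2
      rw [← map_ofNat ι₀, h, map_zero]
    rw [inndiagQ_plus hm1 h2]
    apply splitClassCount_eq_one
    rintro y ⟨k, ⟨g, hg, rfl⟩, rfl⟩
    have hg' : epsHom (QP m F) (QP_ne_zero hm1) m g = 1 := hg
    obtain ⟨c₀, hc₀⟩ := exists_emb_mul_mem_inn h2 h2' hQ hQ₀ hn (card_plus m) hι r hσpow hoddr
      hcompat (QP_ne_zero hm1) (QP_ne_zero hm1) (chi_surj_plus hm1 h2') g hg'
    refine ⟨_, hc₀, ?_⟩
    have hcomm := mem_commSub.1 (embGO_mem_commSub hQ hn hι hcompat hstd c₀)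
    rw [map_mul, _root_.mul_inv_rev]
    have : Phi (⇑(QP m F)) (embGO ι₀ hcompat c₀) * PhiS 1 σ hstd *
        (Phi (⇑(QP m F)) (embGO ι₀ hcompat c₀))⁻¹ = PhiS 1 σ hstd := by
      rw [hcomm, mul_assoc, mul_inv_cancel, mul_one]
    calc Phi (⇑(QP m F)) g * PhiS 1 σ hstd * (Phi (⇑(QP m F)) g)⁻¹
        = Phi (⇑(QP m F)) g *
          (Phi (⇑(QP m F)) (embGO ι₀ hcompat c₀) * PhiS 1 σ hstd *
          (Phi (⇑(QP m F)) (embGO ι₀ hcompat c₀))⁻¹) * (Phi (⇑(QP m F)) g)⁻¹ := by rw [this]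
      _ = _ := by group

end Main

end Cfsg.Agent.Lib.Helper5.OPlus
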