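import Mathlib
import Cfsg.Agent.Lib.Helper5.OPlus.F2

set_option autoImplicit false

/-! Standard involutory field automorphisms of the plus type orthogonal groups in odd characteristic:
the number of classes. -/

namespace Cfsg.Agent.Lib.Helper5.OPlus

open Matrix Module Cfsg.Agent.Lib.Helper5.PGO Cfsg.Agent.Lib.Helper5.OAut
open Cfsg.Agent.Lib.Helper5.PSLCoset Cfsg.Agent.Lib.Helper5.SplitConj
open Cfsg.Agent.Lib.Helper2 Cfsg.Agent.Lib.Helper2.CDG Cfsg.Agent.Lib.Helper2.OrthCard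
open Cfsg.Agent.Lib.Helper5.OrthCls Cfsg.Agent.Lib.Helper5.MaxTS
open Cfsg.Agent.Lib.Helper5.QuadGlue Cfsg.Agent.Lib.Helper2.QuadStd
open Cfsg.Agent.Lib.Helper5.SpinorDiag Cfsg.Agent.Lib.Helper5.PlusLevi
open Cfsg.Agent.Lib.Helper5.PSpField Cfsg.Agent.Lib.Helper2.Dickson
open Cfsg.Agent.Lib.Helper5.OmegaCrit Cfsg.Agent.Lib.Helper2.Spinor Cfsg.Agent.Lib.Helper5.OFld

section Main
variable {F F₀ : Type*} [Field F] [Fintype F] [Field F₀] [Fintype F₀] {m : ℕ}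

set_option maxHeartbeats 3200000 in
/-- the class of the standard involutory field automorphism splits into two or four classes in
odd characteristic -/
theorem plus_field_split_two (h2 : (2 : F) ≠ 0) (hm : 4 ≤ m) (σ : F ≃+* F) (hσ : orderOf σ = 2)
    (hstd : Cfsg.IsSemisimilarityPair (⇑(QP m F)) (1 : GL (Fin m ⊕ Fin m) F) σ)
    (ι₀ : F₀ →+* F) (hι : ∀ a, σ a = a ↔ a ∈ Set.range ι₀)
    (hcard : Fintype.card F = Fintype.card F₀ ^ 2) :
    ((Odd m ∧ Fintype.card F₀ % 4 = 1) →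
      Cfsg.splitClassCount (inndiagQ (⇑(QP m F))) (Cfsg.Inn (Cfsg.POmega F ⇑(QP m F)))
        (PhiS 1 σ hstd) = 2) ∧
    (¬ (Odd m ∧ Fintype.card F₀ % 4 = 1) →
      Cfsg.splitClassCount (inndiagQ (⇑(QP m F))) (Cfsg.Inn (Cfsg.POmega F ⇑(QP m F)))
        (PhiS 1 σ hstd) = 4) := by
  classical
  have hm1 : 1 ≤ m := by omega
  have h2' : (2 : F₀) ≠ 0 := by
    intro h
    apply h2
    rw [← map_ofNat ι₀, h, map_zero]
  have hQ := QP_nondeg (F := F) m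
  have hQ₀ := QP_nondeg (F := F₀) m
  have hn : 7 ≤ Fintype.card (Fin m ⊕ Fin m) := by rw [card_plus]; omega
  have hQ0 := QP_ne_zero (F := F) hm1
  have hQ₀0 := QP_ne_zero (F := F₀) hm1
  have hcompat := QP_extV (F := F) (F₀ := F₀) ι₀ m
  have hsq : ∀ a : F₀, IsSquare (ι₀ a) := isSquare_map_of_card_sq h2 hcard
  have hodd₀ : Fintype.card F₀ % 2 = 1 :=
    FiniteField.odd_card_of_char_ne_two (ringChar_ne_two_of h2')
  have hq4 : Fintype.card F % 4 = 1 := by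
    rw [hcard, pow_two, Nat.mul_mod]
    have : Fintype.card F₀ % 4 = 1 ∨ Fintype.card F₀ % 4 = 3 := by omega
    rcases this with h | h <;> rw [h]
  have hqodd : Odd (Fintype.card F) := by
    rw [Nat.odd_iff]
    omega
  have hneg : negOne (QP m F) ∈ commutator ↥(Cfsg.isometryGroup F ⇑(QP m F)) := by
    rw [negOne_plus_iff' rfl hqodd hm1]
    rintro ⟨-, h⟩
    omega
  have hidx := relIndex_inn_idg_of_mem hQ hQ0 (card_plus m) h2 hn (chi_surj_plus hm1 h2) hneg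
  have hInnI := inn_le_idg hQ hQ0 (card_plus m) h2 (by omega : 2 ≤ _)
  haveI : (Cfsg.Inn (Cfsg.POmega F ⇑(QP m F))).Normal := inn_normal _
  rw [inndiagQ_plus hm1 h2, splitClassCount_sub _ _ hInnI]
  -- the explicit element
  obtain ⟨ν₀, hν₀⟩ := exists_nonsquare_unit (F := F₀) h2'
  obtain ⟨c₁, hc₁⟩ := hsq (ν₀ : F₀)
  have hc₁0 : c₁ ≠ 0 := by
    rintro rfl
    rw [mul_zero] at hc₁
    exact ν₀.ne_zero (ι₀.injective (by rw [hc₁, map_zero]))
  obtain ⟨c, hc⟩ : ∃ c : Fˣ, (c : F) = c₁ := ⟨Units.mk0 c₁ hc₁0, rfl⟩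
  have hνcc : Units.map (ι₀ : F₀ →* F) ν₀ = c * c := by
    apply Units.ext
    rw [Units.val_mul, hc]
    exact hc₁
  obtain ⟨γ, hγdef⟩ : ∃ γ, γ = Phi (⇑(QP m F)) (embGO ι₀ hcompat (dnuGO m ν₀)) := ⟨_, rfl⟩
  have hγinn : γ ∈ Cfsg.Inn (Cfsg.POmega F ⇑(QP m F)) ↔
      ¬ (Odd m ∧ Fintype.card F₀ % 4 = 1) := by
    rw [hγdef, embGO_dnuGO, hνcc, Phi_dnuGO_mem_inn_iff h2 hm hneg c]
    exact dnu_crit_eval h2 ι₀ hcard m (c : F) (ν₀ : F₀) hν₀ (by rw [hc, hc₁])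
  have hγI : γ ∈ idg (QP m F) hQ0 m := by
    rw [hγdef, embGO_dnuGO]
    exact ⟨_, dnuGO_mem_GOp hm1 _, rfl⟩
  have hγC : γ ∈ Subgroup.centralizer {PhiS 1 σ hstd} := by
    rw [hγdef]
    have := embGO_mem_commSub hQ hn hι hcompat hstd (dnuGO m ν₀)
    exact this
  have hKP : ∀ t ∈ idg (QP m F) hQ0 m ⊓ Subgroup.centralizer {PhiS 1 σ hstd},
      t ∈ Cfsg.Inn (Cfsg.POmega F ⇑(QP m F)) ∨ t * γ⁻¹ ∈ Cfsg.Inn (Cfsg.POmega F ⇑(QP m F)) := by
    intro t ht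
    obtain ⟨c₀, hc₀, rfl⟩ := mem_centralizer_sub hQ hn hι 2 hσ two_pos hcompat hstd
      (GOp (QP m F) hQ0 m) (GOp (QP m F₀) hQ₀0 m)
      (fun g₀ => by
        unfold GOp
        rw [MonoidHom.mem_ker, MonoidHom.mem_ker]
        exact epsHom_embGO_iff hQ0 hQ₀0 hcompat m g₀)
      (by
        rintro _ ⟨b, rfl⟩
        unfold GOp
        rw [MonoidHom.mem_ker]
        exact eps_scal hQ0 (card_plus m) b) t ht
    have heps : epsHom (QP m F₀) hQ₀0 m c₀ = 1 := hc₀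
    by_cases hmu : IsSquare (mu (⇑(QP m F₀)) c₀ : F₀)
    · left
      exact Phi_embGO_mem_inn_of_sq h2 h2' hQ hQ₀ (card_plus m) (by omega) hcompat hQ₀0 hsq c₀
        hmu heps
    · right
      have hd : dnuGO m ν₀ ∈ GOp (QP m F₀) hQ₀0 m := dnuGO_mem_GOp hm1 ν₀
      have heps' : epsHom (QP m F₀) hQ₀0 m (c₀ * (dnuGO m ν₀)⁻¹) = 1 :=
        (GOp (QP m F₀) hQ₀0 m).mul_mem hc₀ ((GOp (QP m F₀) hQ₀0 m).inv_mem hd)
      have hmu' : IsSquare (mu (⇑(QP m F₀)) (c₀ * (dnuGO m ν₀)⁻¹) : F₀) := by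
        have e : mu (⇑(QP m F₀)) (c₀ * (dnuGO m ν₀)⁻¹) =
            mu (⇑(QP m F₀)) c₀ * (mu (⇑(QP m F₀)) (dnuGO m ν₀))⁻¹ := by
          rw [← muHom_apply (⇑(QP m F₀)) hQ₀0, map_mul, map_inv]
          rfl
        rw [e, mu_dnuGO hm1, Units.val_mul, Units.val_inv_eq_inv_val]
        apply isSquare_mul_of_not h2' hmu
        rintro ⟨w, hw⟩
        apply hν₀
        refine ⟨w⁻¹, ?_⟩
        rw [← mul_inv, ← hw, inv_inv]
      have := Phi_embGO_mem_inn_of_sq h2 h2' hQ hQ₀ (card_plus m) (by omega) hcompat hQ₀0 hsq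
        (c₀ * (dnuGO m ν₀)⁻¹) hmu' heps'
      rw [map_mul, map_mul, map_inv, map_inv] at this
      rw [hγdef]
      exact this
  constructor
  · intro hA
    have hγ : γ ∉ Cfsg.Inn (Cfsg.POmega F ⇑(QP m F)) := fun h => (hγinn.1 h) hA
    haveI : ((Cfsg.Inn (Cfsg.POmega F ⇑(QP m F))).subgroupOf
        (idg (QP m F) hQ0 m)).Normal := Subgroup.Normal.subgroupOf inferInstance _
    apply index_sup_eq_two _ _ hidx ⟨γ, hγI⟩
    · rw [Subgroup.mem_subgroupOf]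
      exact hγC
    · rw [Subgroup.mem_subgroupOf]
      exact hγ
    · rintro ⟨t, htI⟩ htC
      rw [Subgroup.mem_subgroupOf] at htC
      rw [Subgroup.mem_subgroupOf, Subgroup.mem_subgroupOf]
      exact hKP t (Subgroup.mem_inf.2 ⟨htI, htC⟩)
  · intro hB
    have hγ := hγinn.2 hB
    rw [index_sup_of_le]
    · exact hidx
    · rintro ⟨t, htI⟩ htC
      rw [Subgroup.mem_subgroupOf] at htC ⊢
      rcases hKP t (Subgroup.mem_inf.2 ⟨htI, htC⟩) with h | h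
      · exact h
      · have : t = t * γ⁻¹ * γ := by group
        show t ∈ _
        rw [this]
        exact Subgroup.mul_mem _ h hγ

end Main

end Cfsg.Agent.Lib.Helper5.OPlus
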