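import Mathlib
import Cfsg.Agent.Lib.Helper3.PO9
set_option autoImplicit false
set_option linter.unusedSectionVars false
set_option maxRecDepth 1000000
open Cfsg Cfsg.Lie

/-! An isomorphism `D₄(F) ≃ PΩ₈⁺(F)` which sends the root elements to the classes of the explicit root
elements of the orthogonal group. -/

namespace Cfsg.Agent.Lib.Helper5.OPlus

open Cfsg.Agent.H9Sieg Cfsg.Agent.Lib.Helper5.QuadGlue Cfsg.Agent.Lib.Helper2.QuadStd Matrix
open Cfsg.Agent.Lib.Helper3.ChevM Cfsg.Agent.Lib.Helper3.StB Cfsg.Agent.Lib.Helper3.PO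

/-- two surjections from the same group, one onto a nonabelian simple group with kernel the center, give an
isomorphism onto the central quotient of the other image, compatible with the surjections -/
theorem center_quot_iso_compat {Δ G E : Type*} [Group Δ] [Group G] [Group E] (θ : Δ →* G)
    (hθ : Function.Surjective θ) (hker : θ.ker = Subgroup.center Δ) [IsSimpleGroup G]
    (hG : ∃ a b : G, a * b ≠ b * a) (ψ : Δ →* E) (hψ : Function.Surjective ψ)
    (hE : ∃ a b : E, a * b ≠ b * a) :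
    ∃ e : G ≃* E ⧸ Subgroup.center E, ∀ d : Δ, e (θ d) = QuotientGroup.mk (ψ d) := by
  have hZG : Subgroup.center G = ⊥ := by
    rcases (inferInstance : (Subgroup.center G).Normal).eq_bot_or_eq_top with h | h
    · exact h
    · exfalso
      obtain ⟨a, b, hab⟩ := hG
      have ha : a ∈ Subgroup.center G := by rw [h]; exact Subgroup.mem_top a
      exact hab ((Subgroup.mem_center_iff.mp ha b).symm)
  have hψZ : ∀ z ∈ Subgroup.center Δ, ψ z ∈ Subgroup.center E := by
    intro z hz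
    rw [Subgroup.mem_center_iff]
    intro e
    obtain ⟨d, rfl⟩ := hψ e
    rw [← map_mul, ← map_mul, Subgroup.mem_center_iff.mp hz d]
  have hkk : ψ.ker ≤ θ.ker := by
    have hN : (ψ.ker.map θ).Normal := Subgroup.Normal.map inferInstance θ hθ
    rcases hN.eq_bot_or_eq_top with h | h
    · intro x hx
      have : θ x ∈ ψ.ker.map θ := Subgroup.mem_map_of_mem θ hx
      rw [h, Subgroup.mem_bot] at this
      exact this
    · exfalso
      obtain ⟨a, b, hab⟩ := hE
      apply hab
      obtain ⟨x, rfl⟩ := hψ a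
      have hx : θ x ∈ ψ.ker.map θ := by rw [h]; exact Subgroup.mem_top _
      obtain ⟨k, hk, hkx⟩ := hx
      have hz : k⁻¹ * x ∈ Subgroup.center Δ := by
        rw [← hker, MonoidHom.mem_ker, map_mul, map_inv, hkx, inv_mul_cancel]
      have hψx : ψ x = ψ (k⁻¹ * x) := by
        rw [map_mul, map_inv, MonoidHom.mem_ker.mp hk, inv_one, one_mul]
      rw [hψx]
      exact (Subgroup.mem_center_iff.mp (hψZ _ hz) b).symm
  have hM : (Subgroup.center E).comap ψ = Subgroup.center Δ := by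
    apply le_antisymm
    · intro z hz
      rw [Subgroup.mem_comap] at hz
      rw [← hker, MonoidHom.mem_ker]
      have : θ z ∈ Subgroup.center G := by
        rw [Subgroup.mem_center_iff]
        intro g
        obtain ⟨d, rfl⟩ := hθ g
        have h1 : d * z * d⁻¹ * z⁻¹ ∈ ψ.ker := by
          rw [MonoidHom.mem_ker, map_mul, map_mul, map_mul, map_inv, map_inv,
            Subgroup.mem_center_iff.mp hz (ψ d)]
          group
        have h2 := hkk h1
        rw [MonoidHom.mem_ker, map_mul, map_mul, map_mul, map_inv, map_inv] at h2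
        have h3 : θ d * θ z = (θ d * θ z * (θ d)⁻¹ * (θ z)⁻¹) * (θ z * θ d) := by group
        rw [h3, h2, one_mul]
      rw [hZG, Subgroup.mem_bot] at this
      exact this
    · intro z hz
      exact hψZ z hz
  let π : Δ →* E ⧸ Subgroup.center E := (QuotientGroup.mk' (Subgroup.center E)).comp ψ
  have hπ : Function.Surjective π := (QuotientGroup.mk'_surjective _).comp hψ
  have hπker : π.ker = θ.ker := by
    rw [hker, ← hM]
    ext z
    rw [MonoidHom.mem_ker, Subgroup.mem_comap]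
    show (QuotientGroup.mk (ψ z) : E ⧸ Subgroup.center E) = 1 ↔ _
    rw [QuotientGroup.eq_one_iff]
  refine ⟨(QuotientGroup.quotientKerEquivOfSurjective θ hθ).symm.trans
    ((QuotientGroup.quotientMulEquivOfEq hπker.symm).trans
      (QuotientGroup.quotientKerEquivOfSurjective π hπ)), ?_⟩
  intro d
  have h1 : (QuotientGroup.quotientKerEquivOfSurjective θ hθ).symm (θ d) = QuotientGroup.mk d := by
    rw [MulEquiv.symm_apply_eq]
    rfl
  rw [MulEquiv.trans_apply, h1, MulEquiv.trans_apply, QuotientGroup.quotientMulEquivOfEq_mk]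
  rfl

section
variable (F : Type*) [Field F]

/-- `D₄(F) ≃ PΩ₈⁺(F)`, tracking the root elements -/
theorem d4_iso_compat : ∃ e : ↥(cdD4.D.group F) ≃* Cfsg.POmega F ⇑(QP 4 F),
    ∀ (r : ℕ) (hr : r < 24) (t : F) (h1 : relD4.xU r t ∈ cdD4.D.group F)
      (h2 : X4 r t ∈ Cfsg.Omega F ⇑(QP 4 F)),
      e ⟨relD4.xU r t, h1⟩ = QuotientGroup.mk ⟨X4 r t, h2⟩ := by
  obtain ⟨θ, hθs, hθk, hθx⟩ := pres_exists relD4 commD4 stHypD4
    (relD4.borel_core_trivial (of_pairRange (m := 24) (n := 24) d4Hdec) d4Tri d4NegTri w0D4 w0rD4 w0D4_lt d4Opp (of_pairRange (m := 4) (n := 24) d4NegRefl) rwD4 d4Rwc d4Inj) _ (fun g hg => hg)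
    (stLift_relsAB (F := F) relD4 commD4)
  obtain ⟨hsimple, hnc⟩ : IsSimpleGroup ↥(cdD4.D.group F) ∧ ¬ IsMulCommutative ↥(cdD4.D.group F) :=
    commD4.simple (F := F) simpleD4 (Or.inl fun _ _ => rfl)
  have hG : ∃ a b : ↥(cdD4.D.group F), a * b ≠ b * a := by
    by_contra hcon
    push Not at hcon
    exact hnc ⟨⟨hcon⟩⟩
  have hΩ : Cfsg.Omega F ⇑(Qp F 4) = Ert F 4 := Omega_eq_Ert (by norm_num)
  have hrange : ∀ x, psi4 (F := F) x ∈ Cfsg.Omega F ⇑(Qp F 4) := by
    intro x
    rw [hΩ, ← psi4_range]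
    exact ⟨x, rfl⟩
  let ψ : chevD4.SteinbergCover F →* ↥(Cfsg.Omega F ⇑(Qp F 4)) := psi4.codRestrict _ hrange
  have hψ : Function.Surjective ψ := by
    rintro ⟨y, hy⟩
    have hy' : y ∈ (psi4 (F := F)).range := by rw [psi4_range, ← hΩ]; exact hy
    obtain ⟨x, rfl⟩ := hy'
    exact ⟨x, rfl⟩
  have hE : ∃ a b : ↥(Cfsg.Omega F ⇑(Qp F 4)), a * b ≠ b * a := by
    obtain ⟨a, b, hab⟩ := Ert_noncomm (F := F)
    refine ⟨⟨a.1, by rw [hΩ]; exact a.2⟩, ⟨b.1, by rw [hΩ]; exact b.2⟩, ?_⟩
    intro h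
    apply hab
    apply Subtype.ext
    have := congrArg Subtype.val h
    exact this
  haveI : IsSimpleGroup ↥(cdD4.D.group F) := hsimple
  obtain ⟨e, he⟩ := center_quot_iso_compat (G := ↥(cdD4.D.group F)) θ hθs hθk hG ψ hψ hE
  refine ⟨e, ?_⟩
  intro r hr t h1 h2
  have hr' : r < cdD4.D.nroots := hr
  have hr'' : r < chevD4.nroots := hr
  have e1 : θ (PresentedGroup.mk _ (cdD4.D.stX r t)) = ⟨relD4.xU r t, h1⟩ := by
    apply Subtype.ext
    apply Units.ext
    rw [hθx r t hr', relD4.xU_val]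
  have e2 : ψ (PresentedGroup.mk _ (chevD4.stX r t)) = ⟨X4 r t, h2⟩ := by
    apply Subtype.ext
    show psi4 (PresentedGroup.mk _ (chevD4.stX r t)) = X4 r t
    rw [stX_of_lt _ r hr'']
    exact psi4_of (⟨r, hr''⟩, t)
  rw [← e1, he]
  exact congrArg _ e2

end

end Cfsg.Agent.Lib.Helper5.OPlus
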