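import Mathlib
import Cfsg.Agent.Lib.Helper5.OPlus.N1
import Cfsg.Agent.Lib.Helper5.PGO21
set_option autoImplicit false
set_option linter.unusedSectionVars false
open Cfsg

/-! Diagonal similarities of the form `Σ xᵢ yᵢ` and their action on the root elements. -/

namespace Cfsg.Agent.Lib.Helper5.OPlus

open Cfsg.Agent.H9Sieg Cfsg.Agent.Lib.Helper5.QuadGlue Cfsg.Agent.Lib.Helper2.QuadStd Matrix
open Cfsg.Agent.Lib.Helper3.PO Cfsg.Agent.Lib.Helper5.PGO

section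
variable {F : Type*} [Field F] {m : ℕ}

/-- a diagonal matrix with invertible entries as an invertible matrix -/
def dgGL {ι : Type} [Fintype ι] [DecidableEq ι] (δ : ι → Fˣ) : GL ι F :=
  ⟨Matrix.diagonal fun k => (δ k : F), Matrix.diagonal fun k => (((δ k)⁻¹ : Fˣ) : F),
    by rw [Matrix.diagonal_mul_diagonal, ← Matrix.diagonal_one]; congr 1; funext k; simp,
    by rw [Matrix.diagonal_mul_diagonal, ← Matrix.diagonal_one]; congr 1; funext k; simp⟩

theorem dgGL_coe {ι : Type} [Fintype ι] [DecidableEq ι] (δ : ι → Fˣ) :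
    ((dgGL δ : GL ι F) : Matrix ι ι F) = Matrix.diagonal fun k => (δ k : F) := rfl

theorem dgGL_inv_coe {ι : Type} [Fintype ι] [DecidableEq ι] (δ : ι → Fˣ) :
    (((dgGL δ)⁻¹ : GL ι F) : Matrix ι ι F) = Matrix.diagonal fun k => (((δ k)⁻¹ : Fˣ) : F) := rfl

theorem dgGL_mulVec {ι : Type} [Fintype ι] [DecidableEq ι] (δ : ι → Fˣ) (v : ι → F) (k : ι) :
    (((dgGL δ : GL ι F) : Matrix ι ι F) *ᵥ v) k = (δ k : F) * v k := by
  rw [dgGL_coe, Matrix.mulVec_diagonal]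

theorem dgGL_inv_mulVec {ι : Type} [Fintype ι] [DecidableEq ι] (δ : ι → Fˣ) (v : ι → F) (k : ι) :
    ((((dgGL δ)⁻¹ : GL ι F) : Matrix ι ι F) *ᵥ v) k = (((δ k)⁻¹ : Fˣ) : F) * v k := by
  rw [dgGL_inv_coe, Matrix.mulVec_diagonal]

/-- the condition for a diagonal matrix to be a similarity with multiplier `μ` -/
def IsDSim (δ : Fin m ⊕ Fin m → Fˣ) (μ : Fˣ) : Prop := ∀ k, δ k * δ (pt k) = μ

theorem dgGL_sim {δ : Fin m ⊕ Fin m → Fˣ} {μ : Fˣ} (h : IsDSim δ μ) (v : Fin m ⊕ Fin m → F) :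
    QP m F (((dgGL δ : GL (Fin m ⊕ Fin m) F) : Matrix _ _ F) *ᵥ v) = (μ : F) * QP m F v := by
  have e1 := Qp_apply (F := F) (m := m)
  rw [e1, e1, Finset.mul_sum]
  apply Finset.sum_congr rfl
  intro i _
  rw [dgGL_mulVec, dgGL_mulVec]
  have := h (Sum.inl i)
  have h' : (δ (Sum.inl i) : F) * (δ (Sum.inr i) : F) = μ := by
    rw [← Units.val_mul]
    exact congrArg Units.val this
  rw [← h']
  ring

theorem dgGL_mem {δ : Fin m ⊕ Fin m → Fˣ} {μ : Fˣ} (h : IsDSim δ μ) :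
    (dgGL δ : GL (Fin m ⊕ Fin m) F) ∈ GO (⇑(QP m F)) := ⟨μ, dgGL_sim h⟩

/-- the diagonal similarity as an element of the similarity group -/
noncomputable def dgGO {δ : Fin m ⊕ Fin m → Fˣ} {μ : Fˣ} (h : IsDSim δ μ) : ↥(GO (⇑(QP m F))) :=
  ⟨dgGL δ, dgGL_mem h⟩

theorem mu_dgGO [Fintype F] [DecidableEq F] (hm : 1 ≤ m) {δ : Fin m ⊕ Fin m → Fˣ} {μ : Fˣ} (h : IsDSim δ μ) :
    mu (⇑(QP m F)) (dgGO h) = μ :=
  Units.ext (mu_unique (QP_ne_zero hm) (dgGO h) μ (dgGL_sim h))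

theorem det_dgGL {δ : Fin m ⊕ Fin m → Fˣ} {μ : Fˣ} (h : IsDSim δ μ) :
    Matrix.det ((dgGL δ : GL (Fin m ⊕ Fin m) F) : Matrix (Fin m ⊕ Fin m) (Fin m ⊕ Fin m) F) =
      (μ : F) ^ m := by
  rw [dgGL_coe, Matrix.det_diagonal, Fintype.prod_sum_type, ← Finset.prod_mul_distrib]
  have : ∀ i : Fin m, (δ (Sum.inl i) : F) * (δ (Sum.inr i) : F) = μ := by
    intro i
    rw [← Units.val_mul]
    exact congrArg Units.val (h (Sum.inl i))
  rw [Finset.prod_congr rfl (fun i _ => this i), Finset.prod_const, Finset.card_univ, Fintype.card_fin]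

theorem dgGO_mem_GOp [Fintype F] [DecidableEq F] (hm : 1 ≤ m) {δ : Fin m ⊕ Fin m → Fˣ} {μ : Fˣ}
    (h : IsDSim δ μ) : dgGO h ∈ GOp (QP m F) (QP_ne_zero hm) m := by
  show epsHom (QP m F) (QP_ne_zero hm) m (dgGO h) = 1
  rw [epsHom_apply, mu_dgGO hm h]
  apply Units.ext
  rw [Units.val_mul, detGO_coe]
  show ((dgGL δ : GL (Fin m ⊕ Fin m) F) : Matrix (Fin m ⊕ Fin m) (Fin m ⊕ Fin m) F).det * _ = _
  rw [det_dgGL h, ← Units.val_pow_eq_pow_val, ← Units.val_mul, mul_inv_cancel]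

/-- conjugation of a root element by a diagonal similarity -/
theorem dgGL_conj_rt {δ : Fin m ⊕ Fin m → Fˣ} {μ : Fˣ} (h : IsDSim δ μ) (k l : Fin m ⊕ Fin m)
    (hkl : l ≠ pt k) (c : F) :
    (dgGL δ : GL (Fin m ⊕ Fin m) F) * ((rt k l c : ↥(Cfsg.isometryGroup F ⇑(Qp F m))) : GL _ F) *
      (dgGL δ)⁻¹ =
      ((rt k l (((δ k * δ l * μ⁻¹ : Fˣ) : F) * c) : ↥(Cfsg.isometryGroup F ⇑(Qp F m))) : GL _ F) := by
  apply Units.ext
  rw [Units.val_mul, Units.val_mul]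
  apply Matrix.toLin'.injective
  apply LinearMap.ext
  intro v
  rw [Matrix.toLin'_apply, Matrix.toLin'_apply, ← Matrix.mulVec_mulVec, ← Matrix.mulVec_mulVec]
  funext j
  have e1 := rt_apply (F := F) k l hkl c
    ((((dgGL δ)⁻¹ : GL (Fin m ⊕ Fin m) F) : Matrix _ _ F) *ᵥ v)
  have e2 := rt_apply (F := F) k l hkl (((δ k * δ l * μ⁻¹ : Fˣ) : F) * c) v j
  unfold mat at e1 e2
  rw [dgGL_mulVec, e1, e2, dgGL_inv_mulVec, dgGL_inv_mulVec, dgGL_inv_mulVec]
  have hk : (δ k : F) * (δ (pt k) : F) = μ := by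
    rw [← Units.val_mul]; exact congrArg Units.val (h k)
  have hl : (δ l : F) * (δ (pt l) : F) = μ := by
    rw [← Units.val_mul]; exact congrArg Units.val (h l)
  have hk0 : (δ k : F) ≠ 0 := (δ k).ne_zero
  have hl0 : (δ l : F) ≠ 0 := (δ l).ne_zero
  have hpk0 : (δ (pt k) : F) ≠ 0 := (δ (pt k)).ne_zero
  have hpl0 : (δ (pt l) : F) ≠ 0 := (δ (pt l)).ne_zero
  have hj0 : (δ j : F) ≠ 0 := (δ j).ne_zero
  have hμ0 : (μ : F) ≠ 0 := μ.ne_zero
  simp only [Units.val_mul, Units.val_inv_eq_inv_val]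
  by_cases hjk : j = k
  · subst hjk
    by_cases hjl : j = l
    · subst hjl
      simp only [if_true]
      rw [← hl]
      field_simp
      try ring
    · simp only [if_true, if_neg hjl]
      rw [← hl]
      field_simp
      try ring
  · by_cases hjl : j = l
    · subst hjl
      simp only [if_true, if_neg hjk]
      rw [← hk]
      field_simp
      try ring
    · simp only [if_neg hjk, if_neg hjl]
      field_simp
      try ring

end

end Cfsg.Agent.Lib.Helper5.OPlus
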