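import Mathlib
import Cfsg.Agent.Lib.Helper5.OPlus.N2
import Cfsg.Agent.Lib.Helper5.OPlus.D5
set_option autoImplicit false
set_option linter.unusedSectionVars false
set_option maxRecDepth 1000000
open Cfsg Cfsg.Lie

/-! The diagonal automorphisms of `D₄(F)` correspond to the automorphisms of `PΩ₈⁺(F)` induced by
diagonal similarities. -/

namespace Cfsg.Agent.Lib.Helper5.OPlus

open Cfsg.Agent.H9Sieg Cfsg.Agent.Lib.Helper5.QuadGlue Cfsg.Agent.Lib.Helper2.QuadStd Matrix
open Cfsg.Agent.Lib.Helper3.ChevM Cfsg.Agent.Lib.Helper3.StB Cfsg.Agent.Lib.Helper3.PO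
open Cfsg.Agent.Lib.Helper3.ChevAut Cfsg.Agent.Lib.Helper5.PGO

section
variable {F : Type*} [Field F]

/-- the upper half of the diagonal similarity of a character -/
def lamD (c : Fin 4 → Fˣ) : Fin 4 → Fˣ := ![c 0 * c 1 * c 2, c 1 * c 2, c 2, 1]

theorem lamD_zero (c : Fin 4 → Fˣ) : lamD c 0 = c 0 * c 1 * c 2 := rfl
theorem lamD_one (c : Fin 4 → Fˣ) : lamD c 1 = c 1 * c 2 := rfl
theorem lamD_two (c : Fin 4 → Fˣ) : lamD c 2 = c 2 := rfl
theorem lamD_three (c : Fin 4 → Fˣ) : lamD c 3 = 1 := rfl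

/-- its multiplier -/
def muD (c : Fin 4 → Fˣ) : Fˣ := c 2 * (c 3)⁻¹

/-- the diagonal similarity of a character -/
def deltaD (c : Fin 4 → Fˣ) : Fin 4 ⊕ Fin 4 → Fˣ :=
  Sum.elim (lamD c) (fun i => muD c * (lamD c i)⁻¹)

theorem isDSim_deltaD (c : Fin 4 → Fˣ) : IsDSim (deltaD c) (muD c) := by
  intro k
  rcases k with i | i
  · show lamD c i * (muD c * (lamD c i)⁻¹) = muD c
    rw [mul_comm (muD c), ← mul_assoc, mul_inv_cancel, one_mul]
  · show muD c * (lamD c i)⁻¹ * lamD c i = muD c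
    rw [mul_assoc, inv_mul_cancel, mul_one]

/-- the weight of the diagonal similarity on the root element of the root `r` -/
def kapD (c : Fin 4 → Fˣ) (r : ℕ) : Fˣ :=
  deltaD c (d4tab r).1 * deltaD c (d4tab r).2.1 * (muD c)⁻¹

theorem kapD_simple (c : Fin 4 → Fˣ) :
    kapD c 18 = c 0 ∧ kapD c 14 = c 1 ∧ kapD c 13 = c 2 ∧ kapD c 12 = c 3 ∧
    kapD c 5 = (c 0)⁻¹ ∧ kapD c 9 = (c 1)⁻¹ ∧ kapD c 10 = (c 2)⁻¹ ∧ kapD c 11 = (c 3)⁻¹ := by
  refine ⟨?_, ?_, ?_, ?_, ?_, ?_, ?_, ?_⟩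
  · show lamD c 0 * (muD c * (lamD c 1)⁻¹) * (muD c)⁻¹ = c 0
    simp only [lamD_zero, lamD_one, lamD_two, lamD_three]
    apply Units.ext
    simp only [Units.val_mul, Units.val_inv_eq_inv_val, Units.val_one]
    field_simp
  · show lamD c 1 * (muD c * (lamD c 2)⁻¹) * (muD c)⁻¹ = c 1
    simp only [lamD_zero, lamD_one, lamD_two, lamD_three]
    apply Units.ext
    simp only [Units.val_mul, Units.val_inv_eq_inv_val, Units.val_one]
    field_simp
  · show lamD c 2 * (muD c * (lamD c 3)⁻¹) * (muD c)⁻¹ = c 2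
    simp only [lamD_zero, lamD_one, lamD_two, lamD_three]
    apply Units.ext
    simp only [Units.val_mul, Units.val_inv_eq_inv_val, Units.val_one]
    field_simp
  · show lamD c 2 * lamD c 3 * (muD c)⁻¹ = c 3
    rw [muD]
    simp only [lamD_zero, lamD_one, lamD_two, lamD_three]
    apply Units.ext
    simp only [Units.val_mul, Units.val_inv_eq_inv_val, Units.val_one]
    field_simp
  · show lamD c 1 * (muD c * (lamD c 0)⁻¹) * (muD c)⁻¹ = (c 0)⁻¹
    simp only [lamD_zero, lamD_one, lamD_two, lamD_three]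
    apply Units.ext
    simp only [Units.val_mul, Units.val_inv_eq_inv_val, Units.val_one]
    field_simp
  · show lamD c 2 * (muD c * (lamD c 1)⁻¹) * (muD c)⁻¹ = (c 1)⁻¹
    simp only [lamD_zero, lamD_one, lamD_two, lamD_three]
    apply Units.ext
    simp only [Units.val_mul, Units.val_inv_eq_inv_val, Units.val_one]
    field_simp
  · show lamD c 3 * (muD c * (lamD c 2)⁻¹) * (muD c)⁻¹ = (c 2)⁻¹
    simp only [lamD_zero, lamD_one, lamD_two, lamD_three]
    apply Units.ext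
    simp only [Units.val_mul, Units.val_inv_eq_inv_val, Units.val_one]
    field_simp
  · show muD c * (lamD c 2)⁻¹ * (muD c * (lamD c 3)⁻¹) * (muD c)⁻¹ = (c 3)⁻¹
    rw [muD]
    simp only [lamD_zero, lamD_one, lamD_two, lamD_three]
    apply Units.ext
    simp only [Units.val_mul, Units.val_inv_eq_inv_val, Units.val_one]
    field_simp

end

end Cfsg.Agent.Lib.Helper5.OPlus
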