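import Mathlib
import Cfsg.Agent.Lib.Helper5.OPlus.N3
set_option autoImplicit false
set_option linter.unusedSectionVars false
set_option maxRecDepth 1000000
open Cfsg Cfsg.Lie

/-! The diagonal automorphisms of `D₄(F)` correspond to the automorphisms of `PΩ₈⁺(F)` induced by
diagonal similarities: the identification. -/

namespace Cfsg.Agent.Lib.Helper5.OPlus

open Cfsg.Agent.H9Sieg Cfsg.Agent.Lib.Helper5.QuadGlue Cfsg.Agent.Lib.Helper2.QuadStd Matrix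
open Cfsg.Agent.Lib.Helper3.ChevM Cfsg.Agent.Lib.Helper3.StB Cfsg.Agent.Lib.Helper3.PO
open Cfsg.Agent.Lib.Helper3.ChevAut Cfsg.Agent.Lib.Helper5.PGO

section
variable {F : Type*} [Field F]

theorem X4_mem_Omega (r : ℕ) (t : F) : X4 r t ∈ Cfsg.Omega F ⇑(QP 4 F) := by
  have hΩ : Cfsg.Omega F ⇑(Qp F 4) = Ert F 4 := Omega_eq_Ert (by norm_num)
  show X4 r t ∈ Cfsg.Omega F ⇑(Qp F 4)
  rw [hΩ]
  exact X4_mem_Ert r t

theorem Phi_dg_X4 (c : Fin 4 → Fˣ) (r : ℕ) (hr : r < 24) (t : F) :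
    Phi (⇑(QP 4 F)) (dgGO (isDSim_deltaD c)) (QuotientGroup.mk ⟨X4 r t, X4_mem_Omega r t⟩) =
      QuotientGroup.mk ⟨X4 r ((kapD c r : F) * t), X4_mem_Omega r _⟩ := by
  rw [Phi_mk]
  congr 1
  apply Subtype.ext
  apply Subtype.ext
  rw [Phi_mk_coe]
  show dgGL (deltaD c) * ((X4 r t : ↥(Cfsg.isometryGroup F ⇑(Qp F 4))) : GL _ F) *
    (dgGL (deltaD c))⁻¹ = ((X4 r ((kapD c r : F) * t) : ↥(Cfsg.isometryGroup F ⇑(Qp F 4))) : GL _ F)
  obtain ⟨h1, h2, h3⟩ := d4line_spec r hr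
  rw [X4_of_lt r hr, X4_of_lt r hr, dgGL_conj_rt (isDSim_deltaD c) _ _ h2]
  congr 2
  unfold kapD
  ring

/-- the compatibility property of an isomorphism `D₄(F) ≃ PΩ₈⁺(F)` -/
def D4Compat (e : ↥(cdD4.D.group F) ≃* Cfsg.POmega F ⇑(QP 4 F)) : Prop :=
  ∀ (r : ℕ) (_ : r < 24) (t : F) (h1 : relD4.xU r t ∈ cdD4.D.group F)
    (h2 : X4 r t ∈ Cfsg.Omega F ⇑(QP 4 F)), e ⟨relD4.xU r t, h1⟩ = QuotientGroup.mk ⟨X4 r t, h2⟩

theorem exists_d4Compat : ∃ e : ↥(cdD4.D.group F) ≃* Cfsg.POmega F ⇑(QP 4 F), D4Compat e :=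
  d4_iso_compat F

/-- the automorphism of `D₄(F)` corresponding to a diagonal similarity -/
noncomputable def dsAut (e : ↥(cdD4.D.group F) ≃* Cfsg.POmega F ⇑(QP 4 F)) (c : Fin 4 → Fˣ) :
    MulAut ↥(cdD4.D.group F) :=
  (e.trans (Phi (⇑(QP 4 F)) (dgGO (isDSim_deltaD c)))).trans e.symm

theorem dsAut_apply (e : ↥(cdD4.D.group F) ≃* Cfsg.POmega F ⇑(QP 4 F)) (c : Fin 4 → Fˣ)
    (x : ↥(cdD4.D.group F)) :
    dsAut e c x = e.symm (Phi (⇑(QP 4 F)) (dgGO (isDSim_deltaD c)) (e x)) := rfl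

theorem ex_dsAut_xU {e : ↥(cdD4.D.group F) ≃* Cfsg.POmega F ⇑(QP 4 F)} (he : D4Compat e)
    (c : Fin 4 → Fˣ) (r : ℕ) (hr : r < 24) (t : F) :
    ex (dsAut e c) (relD4.xU r t) = relD4.xU r ((kapD c r : F) * t) := by
  have hr' : r < cdD4.D.nroots := hr
  rw [ex_of_mem _ (relD4.xU_mem_group r hr' t), dsAut_apply,
    he r hr t (relD4.xU_mem_group r hr' t) (X4_mem_Omega r t), Phi_dg_X4 c r hr t,
    ← he r hr _ (relD4.xU_mem_group r hr' _) (X4_mem_Omega r _), MulEquiv.symm_apply_apply]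

theorem ex_dAut_xU' (c : Fin 4 → Fˣ) (r : ℕ) (hr : r < 24) (t : F) :
    ex (dAut genHypD4.V relD4 c) (relD4.xU r t) =
      relD4.xU r ((wtC genHypD4.V (K := F) (C := cdD4) c r : F) * t) :=
  ex_dAut_xU genHypD4.V relD4 c r hr t

theorem wtC_eq_kapD (c : Fin 4 → Fˣ) :
    wtC genHypD4.V (K := F) (C := cdD4) c 18 = kapD c 18 ∧
    wtC genHypD4.V (K := F) (C := cdD4) c 14 = kapD c 14 ∧
    wtC genHypD4.V (K := F) (C := cdD4) c 13 = kapD c 13 ∧
    wtC genHypD4.V (K := F) (C := cdD4) c 12 = kapD c 12 ∧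
    wtC genHypD4.V (K := F) (C := cdD4) c 5 = kapD c 5 ∧
    wtC genHypD4.V (K := F) (C := cdD4) c 9 = kapD c 9 ∧
    wtC genHypD4.V (K := F) (C := cdD4) c 10 = kapD c 10 ∧
    wtC genHypD4.V (K := F) (C := cdD4) c 11 = kapD c 11 := by
  obtain ⟨k0, k1, k2, k3, k4, k5, k6, k7⟩ := kapD_simple c
  have s0 : wtC genHypD4.V (K := F) (C := cdD4) c 18 = c 0 :=
    wtC_simple genHypD4.V (K := F) (C := cdD4) c 0 (by decide)
  have s1 : wtC genHypD4.V (K := F) (C := cdD4) c 14 = c 1 :=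
    wtC_simple genHypD4.V (K := F) (C := cdD4) c 1 (by decide)
  have s2 : wtC genHypD4.V (K := F) (C := cdD4) c 13 = c 2 :=
    wtC_simple genHypD4.V (K := F) (C := cdD4) c 2 (by decide)
  have s3 : wtC genHypD4.V (K := F) (C := cdD4) c 12 = c 3 :=
    wtC_simple genHypD4.V (K := F) (C := cdD4) c 3 (by decide)
  have n0 : wtC genHypD4.V (K := F) (C := cdD4) c 5 = (c 0)⁻¹ := by
    rw [← s0]; exact wtC_neg genHypD4.V (K := F) (C := cdD4) c 18 (by decide)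
  have n1 : wtC genHypD4.V (K := F) (C := cdD4) c 9 = (c 1)⁻¹ := by
    rw [← s1]; exact wtC_neg genHypD4.V (K := F) (C := cdD4) c 14 (by decide)
  have n2 : wtC genHypD4.V (K := F) (C := cdD4) c 10 = (c 2)⁻¹ := by
    rw [← s2]; exact wtC_neg genHypD4.V (K := F) (C := cdD4) c 13 (by decide)
  have n3 : wtC genHypD4.V (K := F) (C := cdD4) c 11 = (c 3)⁻¹ := by
    rw [← s3]; exact wtC_neg genHypD4.V (K := F) (C := cdD4) c 12 (by decide)
  exact ⟨s0.trans k0.symm, s1.trans k1.symm, s2.trans k2.symm, s3.trans k3.symm,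
    n0.trans k4.symm, n1.trans k5.symm, n2.trans k6.symm, n3.trans k7.symm⟩

/-- the diagonal automorphism of a character is the automorphism of its diagonal similarity -/
theorem dAut_eq_dsAut {e : ↥(cdD4.D.group F) ≃* Cfsg.POmega F ⇑(QP 4 F)} (he : D4Compat e)
    (c : Fin 4 → Fˣ) : dAut genHypD4.V relD4 c = dsAut e c := by
  obtain ⟨w0, w1, w2, w3, w4, w5, w6, w7⟩ := wtC_eq_kapD (F := F) c
  apply aut_eq_of_simple autHypD4
  intro i hi t
  have hi' : i < 4 := hi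
  interval_cases i
  · exact ⟨by rw [show cdD4.D.simple 0 = 18 from rfl, ex_dAut_xU' c 18 (by norm_num) t,
        ex_dsAut_xU he c 18 (by norm_num) t, w0],
      by rw [show cdD4.D.neg (cdD4.D.simple 0) = 5 from rfl, ex_dAut_xU' c 5 (by norm_num) t,
        ex_dsAut_xU he c 5 (by norm_num) t, w4]⟩
  · exact ⟨by rw [show cdD4.D.simple 1 = 14 from rfl, ex_dAut_xU' c 14 (by norm_num) t,
        ex_dsAut_xU he c 14 (by norm_num) t, w1],
      by rw [show cdD4.D.neg (cdD4.D.simple 1) = 9 from rfl, ex_dAut_xU' c 9 (by norm_num) t,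
        ex_dsAut_xU he c 9 (by norm_num) t, w5]⟩
  · exact ⟨by rw [show cdD4.D.simple 2 = 13 from rfl, ex_dAut_xU' c 13 (by norm_num) t,
        ex_dsAut_xU he c 13 (by norm_num) t, w2],
      by rw [show cdD4.D.neg (cdD4.D.simple 2) = 10 from rfl, ex_dAut_xU' c 10 (by norm_num) t,
        ex_dsAut_xU he c 10 (by norm_num) t, w6]⟩
  · exact ⟨by rw [show cdD4.D.simple 3 = 12 from rfl, ex_dAut_xU' c 12 (by norm_num) t,
        ex_dsAut_xU he c 12 (by norm_num) t, w3],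
      by rw [show cdD4.D.neg (cdD4.D.simple 3) = 11 from rfl, ex_dAut_xU' c 11 (by norm_num) t,
        ex_dsAut_xU he c 11 (by norm_num) t, w7]⟩

end

end Cfsg.Agent.Lib.Helper5.OPlus
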