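import Mathlib
import Cfsg.Agent.Lib.Helper5.OPlus.N4
import Cfsg.Agent.Lib.Helper5.OFld43
set_option autoImplicit false
set_option linter.unusedSectionVars false
set_option maxRecDepth 1000000
open Cfsg Cfsg.Lie

/-! The inner-diagonal group of `PΩ₈⁺(q)`, `q` odd, is normal in the automorphism group. -/

namespace Cfsg.Agent.Lib.Helper5.OPlus

open Cfsg.Agent.H9Sieg Cfsg.Agent.Lib.Helper5.QuadGlue Cfsg.Agent.Lib.Helper2.QuadStd Matrix
open Cfsg.Agent.Lib.Helper3.ChevM Cfsg.Agent.Lib.Helper3.StB Cfsg.Agent.Lib.Helper3.PO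
open Cfsg.Agent.Lib.Helper3.ChevAut Cfsg.Agent.Lib.Helper5.PGO Cfsg.Agent.Lib.Helper5.OFld
open Cfsg.Agent.Lib.Helper5.OAut Cfsg.Agent.Lib.Helper2 Cfsg.Agent.Lib.Helper2.CDG
open Cfsg.Agent.Lib.Helper2.OrthCard Cfsg.Agent.Lib.Helper5.OmegaCrit Cfsg.Agent.Lib.Helper2.Spinor
open Cfsg.Agent.Lib.Helper5.SpinorDiag Cfsg.Agent.Lib.Helper5.PlusLevi

section
variable {F : Type*} [Field F] [Fintype F] [DecidableEq F]

theorem congr_dsAut (e : ↥(cdD4.D.group F) ≃* Cfsg.POmega F ⇑(QP 4 F)) (c : Fin 4 → Fˣ) :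
    MulAut.congr e (dsAut e c) = Phi (⇑(QP 4 F)) (dgGO (isDSim_deltaD c)) := by
  apply MulEquiv.ext
  intro y
  show e (dsAut e c (e.symm y)) = _
  rw [dsAut_apply, MulEquiv.apply_symm_apply, MulEquiv.apply_symm_apply]

/-- the preimage of the diagonal part of the outer automorphism group -/
noncomputable def NDiag (F : Type*) [Field F] : Subgroup (MulAut ↥(cdD4.D.group F)) :=
  (Dbar F).comap (qD4 F)

theorem inn_le_NDiag : Cfsg.Inn ↥(cdD4.D.group F) ≤ NDiag F := by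
  intro x hx
  show qD4 F x ∈ Dbar F
  have : qD4 F x = 1 := (QuotientGroup.eq_one_iff x).2 hx
  rw [this]
  exact Subgroup.one_mem _

theorem relIndex_inn_NDiag : (Cfsg.Inn ↥(cdD4.D.group F)).relIndex (NDiag F) = Nat.card ↥(Dbar F) := by
  have h1 : Cfsg.Inn ↥(cdD4.D.group F) = (⊥ : Subgroup (Cfsg.Out ↥(cdD4.D.group F))).comap (qD4 F) := by
    rw [MonoidHom.comap_bot]
    exact (QuotientGroup.ker_mk' _).symm
  have h2 := Subgroup.relIndex_comap (H := (⊥ : Subgroup (Cfsg.Out ↥(cdD4.D.group F)))) (qD4 F) (NDiag F)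
  rw [← h1, Subgroup.relIndex_bot_left] at h2
  rw [h2]
  unfold NDiag
  have hs : Function.Surjective (qD4 F) := QuotientGroup.mk'_surjective _
  rw [Subgroup.map_comap_eq_self_of_surjective hs]

theorem map_NDiag_le (hodd : Odd (Fintype.card F))
    {e : ↥(cdD4.D.group F) ≃* Cfsg.POmega F ⇑(QP 4 F)} (he : D4Compat e) :
    (NDiag F).map (MulAut.congr e).toMonoidHom ≤ idg (QP 4 F) (QP_ne_zero (by norm_num)) 4 := by
  have h2 : (2 : F) ≠ 0 := two_ne_zero_of_odd_card hodd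
  have hQ := QP_nondeg (F := F) 4
  have hQ0 := QP_ne_zero (F := F) (by norm_num : 1 ≤ 4)
  have hInn := inn_le_idg hQ hQ0 (card_plus 4) h2 (by rw [card_plus]; norm_num)
  rintro _ ⟨x, hx, rfl⟩
  obtain ⟨c, hc⟩ := mem_Dbar.1 hx
  have hinn : (dAut genHypD4.V relD4 c)⁻¹ * x ∈ Cfsg.Inn ↥(cdD4.D.group F) := by
    rw [← QuotientGroup.eq_one_iff]
    show qD4 F ((dAut genHypD4.V relD4 c)⁻¹ * x) = 1
    rw [map_mul, map_inv, hc, inv_mul_cancel]
  have hx' : x = dAut genHypD4.V relD4 c * ((dAut genHypD4.V relD4 c)⁻¹ * x) := by group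
  rw [hx', map_mul]
  apply Subgroup.mul_mem
  · show MulAut.congr e (dAut genHypD4.V relD4 c) ∈ _
    rw [dAut_eq_dsAut he c, congr_dsAut]
    exact ⟨_, dgGO_mem_GOp (by norm_num) (isDSim_deltaD c), rfl⟩
  · apply hInn
    rw [← map_congr_inn e]
    exact ⟨_, hinn, rfl⟩

/-- the inner-diagonal group of `PΩ₈⁺(q)`, `q` odd, is a normal subgroup of the automorphism group -/
theorem idg_four_normal {p f : ℕ} [Fact p.Prime] (hf : 1 ≤ f) (hF : Fintype.card F = p ^ f)
    (hp : p ≠ 2) : (idg (QP 4 F) (QP_ne_zero (by norm_num)) 4).Normal := by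
  have hp' : p.Prime := Fact.out
  haveI := PSL2Aut.charP_of_card hf hF
  have hodd : Odd (Fintype.card F) := by
    rw [hF]
    exact (hp'.odd_of_ne_two hp).pow
  have h2 : (2 : F) ≠ 0 := two_ne_zero_of_odd_card hodd
  have hQ := QP_nondeg (F := F) 4
  have hQ0 := QP_ne_zero (F := F) (by norm_num : 1 ≤ 4)
  have hn : 7 ≤ Fintype.card (Fin 4 ⊕ Fin 4) := by rw [card_plus]; norm_num
  obtain ⟨e, he⟩ := exists_d4Compat (F := F)
  have hle := map_NDiag_le hodd he
  have hcard : Nat.card ↥(Dbar F) = 4 := by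
    rw [(decomp_d4 p f hF).bij.2.1]
    have hev : Even (p ^ f - 1) := by
      have := (hp'.odd_of_ne_two hp).pow (n := f)
      exact Nat.Odd.sub_odd this odd_one
    have : Nat.gcd 2 (p ^ f - 1) = 2 := Nat.gcd_eq_left hev.two_dvd
    rw [this]
    norm_num
  have hinnle : Cfsg.Inn (Cfsg.POmega F ⇑(QP 4 F)) ≤ (NDiag F).map (MulAut.congr e).toMonoidHom := by
    rw [← map_congr_inn e]
    exact Subgroup.map_mono inn_le_NDiag
  have hrel1 : (Cfsg.Inn (Cfsg.POmega F ⇑(QP 4 F))).relIndex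
      ((NDiag F).map (MulAut.congr e).toMonoidHom) = 4 := by
    rw [← map_congr_inn e, Subgroup.relIndex_map_map_of_injective _ _ (MulAut.congr e).injective,
      relIndex_inn_NDiag, hcard]
  have hneg : negOne (QP 4 F) ∈ commutator ↥(Cfsg.isometryGroup F ⇑(QP 4 F)) := by
    rw [negOne_plus_iff' rfl hodd (by norm_num : 1 ≤ 4)]
    rintro ⟨h, -⟩
    exact absurd h (by decide)
  have hrel2 := relIndex_inn_idg_of_mem hQ hQ0 (card_plus 4) h2 hn
    (chi_surj_plus (by norm_num) h2) hneg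
  have h3 := Subgroup.relIndex_mul_relIndex _ _ _ hinnle hle
  rw [hrel1, hrel2] at h3
  have h4 : ((NDiag F).map (MulAut.congr e).toMonoidHom).relIndex
      (idg (QP 4 F) (QP_ne_zero (by norm_num)) 4) = 1 := by omega
  have heq : idg (QP 4 F) (QP_ne_zero (by norm_num)) 4 =
      (NDiag F).map (MulAut.congr e).toMonoidHom :=
    le_antisymm (Subgroup.relIndex_eq_one.1 h4) hle
  rw [heq]
  haveI : (Dbar F).Normal := Dbar_normal p
  haveI : (NDiag F).Normal := Subgroup.Normal.comap inferInstance _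
  exact Subgroup.Normal.map inferInstance _ (MulAut.congr e).surjective

end

end Cfsg.Agent.Lib.Helper5.OPlus
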