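import Mathlib
import Cfsg.Agent.Lib.Helper5.OPlus.F3
import Cfsg.Agent.Lib.Helper5.OPlus.N5

set_option autoImplicit false

/-! Field automorphisms of prime order of the plus type orthogonal groups: main theorem. -/

namespace Cfsg.Agent.Lib.Helper5.OPlus

open Matrix Module Cfsg.Agent.Lib.Helper5.PGO Cfsg.Agent.Lib.Helper5.OAut
open Cfsg.Agent.Lib.Helper5.PSLCoset Cfsg.Agent.Lib.Helper5.SplitConj
open Cfsg.Agent.Lib.Helper2 Cfsg.Agent.Lib.Helper2.CDG Cfsg.Agent.Lib.Helper2.OrthCard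
open Cfsg.Agent.Lib.Helper5.OrthCls Cfsg.Agent.Lib.Helper5.MaxTS
open Cfsg.Agent.Lib.Helper5.QuadGlue Cfsg.Agent.Lib.Helper2.QuadStd
open Cfsg.Agent.Lib.Helper5.SpinorDiag Cfsg.Agent.Lib.Helper5.PlusLevi
open Cfsg.Agent.Lib.Helper5.PSpField Cfsg.Agent.Lib.Helper2.Dickson
open Cfsg.Agent.Lib.Helper5.OmegaCrit Cfsg.Agent.Lib.Helper2.Spinor Cfsg.Agent.Lib.Helper5.OFld

section Conj
variable {X : Type*} [Group X]

theorem map_conj_of_normal (H : Subgroup X) [hH : H.Normal] (a : X) :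
    H.map (MulAut.conj a).toMonoidHom = H := by
  ext y
  constructor
  · rintro ⟨z, hz, rfl⟩
    exact hH.conj_mem z hz a
  · intro hy
    refine ⟨a⁻¹ * y * a, ?_, ?_⟩
    · have := hH.conj_mem y hy a⁻¹
      rwa [inv_inv] at this
    · show a * (a⁻¹ * y * a) * a⁻¹ = y
      group

end Conj

section Main
variable {F : Type*} [Field F] [Fintype F] {m : ℕ}

/-- the inner-diagonal group of the plus type groups is normal in the automorphism group -/
theorem inndiagQ_plus_normal {p f : ℕ} [Fact p.Prime] (hF : Fintype.card F = p ^ f) (hf : 1 ≤ f)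
    (hm : 4 ≤ m) : (inndiagQ (⇑(QP m F))).Normal := by
  classical
  by_cases hm5 : 5 ≤ m
  · exact (inndiagQ_plus_props hm5).1
  · obtain rfl : m = 4 := by omega
    haveI := PSL2Aut.charP_of_card hf hF
    by_cases h2 : (2 : F) = 0
    · rw [inndiagQ_plus_two h2 hm]
      exact inn_normal _
    · rw [inndiagQ_plus (by norm_num) h2]
      apply idg_four_normal hf hF
      rintro rfl
      apply h2
      have := CharP.cast_eq_zero F 2
      exact_mod_cast this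

set_option maxHeartbeats 1600000 in
/-- field automorphisms of prime order of the plus type groups -/
theorem plus_field_main {p f : ℕ} [Fact p.Prime] (hF : Fintype.card F = p ^ f) (hf : 1 ≤ f)
    (hm : 4 ≤ m) (x : MulAut (Cfsg.POmega F ⇑(QP m F)))
    (hx : Cfsg.IsFieldAutClassPOmega (⇑(QP m F)) x) (r : ℕ) (hr : r.Prime) (hxr : orderOf x = r)
    (F₀ : Type*) [Field F₀] [Fintype F₀] (hF₀ : Fintype.card F₀ = p ^ (f / r)) :
    r ∣ f ∧
    Nonempty (↥(inndiagQ (⇑(QP m F)) ⊓ Subgroup.centralizer {x}) ≃* ↥(inndiagQ (⇑(QP m F₀)))) ∧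
    ((Odd r ∨ p = 2) → Cfsg.splitClassCount (inndiagQ (⇑(QP m F)))
      (Cfsg.Inn (Cfsg.POmega F ⇑(QP m F))) x = 1) ∧
    ((r = 2 ∧ p ≠ 2 ∧ Odd m ∧ p ^ (f / 2) % 4 = 1) → Cfsg.splitClassCount (inndiagQ (⇑(QP m F)))
      (Cfsg.Inn (Cfsg.POmega F ⇑(QP m F))) x = 2) ∧
    ((r = 2 ∧ p ≠ 2 ∧ ¬ (Odd m ∧ p ^ (f / 2) % 4 = 1)) →
      Cfsg.splitClassCount (inndiagQ (⇑(QP m F))) (Cfsg.Inn (Cfsg.POmega F ⇑(QP m F))) x = 4) := by
  classical
  haveI := PSL2Aut.charP_of_card hf hF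
  have hm1 : 1 ≤ m := by omega
  have hQ := QP_nondeg (F := F) m
  have hn : 7 ≤ Fintype.card (Fin m ⊕ Fin m) := by rw [card_plus]; omega
  obtain ⟨α, φ, σ, hσ1, hφ, hαx⟩ := hx
  have hstd := pair_std (galInv_QP (F := F) m) σ
  have hφ' : φ = PhiS 1 σ hstd := (isFieldAut_iff' hstd _).1 hφ
  haveI hN : (inndiagQ (⇑(QP m F))).Normal := inndiagQ_plus_normal hF hf hm
  haveI hI : (Cfsg.Inn (Cfsg.POmega F ⇑(QP m F))).Normal := inn_normal _
  have hEx : (MulAut.conj α : MulAut (Cfsg.POmega F ⇑(QP m F)) ≃* MulAut (Cfsg.POmega F ⇑(QP m F))) x =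
      PhiS 1 σ hstd := by
    rw [← hφ', ← hαx]
    rfl
  have hxr' : orderOf (PhiS 1 σ hstd) = r := by
    rw [← hEx, MulEquiv.orderOf_eq, hxr]
  have hσr : orderOf σ = r := by rw [← orderOf_PhiS_std' p hQ hn hstd]; exact hxr'
  have hsplit : Cfsg.splitClassCount (inndiagQ (⇑(QP m F))) (Cfsg.Inn (Cfsg.POmega F ⇑(QP m F))) x =
      Cfsg.splitClassCount (inndiagQ (⇑(QP m F))) (Cfsg.Inn (Cfsg.POmega F ⇑(QP m F)))
        (PhiS 1 σ hstd) := by
    rw [← splitClassCount_map (MulAut.conj α) _ _ x, map_conj_of_normal, map_conj_of_normal, hEx]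
  obtain ⟨hrf, ⟨e2⟩⟩ := plus_field_centralizer hF hf hm σ hstd r hr hxr' F₀ hF₀
  refine ⟨hrf, ?_, ?_, ?_, ?_⟩
  · obtain ⟨e1⟩ := centralizer_map_equiv (MulAut.conj α) (inndiagQ (⇑(QP m F))) x
    rw [map_conj_of_normal, hEx] at e1
    exact ⟨e1.trans e2⟩
  · intro hcase
    rw [hsplit]
    exact plus_field_split_one hF hf hm σ hstd r hr hxr' F₀ hF₀ hcase
  · rintro ⟨rfl, hp, hmo, h4⟩
    rw [hsplit]
    have h2 : (2 : F) ≠ 0 := by
      intro h
      apply hp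
      have h' : ((2 : ℕ) : F) = 0 := by exact_mod_cast h
      rw [CharP.cast_eq_zero_iff F p] at h'
      exact ((Nat.prime_dvd_prime_iff_eq Fact.out Nat.prime_two).1 h')
    obtain ⟨ι₀, hι⟩ := exists_embedding_fixed hF σ 2 hσr two_pos F₀ hF₀
    have hcard : Fintype.card F = Fintype.card F₀ ^ 2 := by
      rw [hF, hF₀, ← pow_mul, Nat.div_mul_cancel hrf]
    refine (plus_field_split_two h2 hm σ hσr hstd ι₀ hι hcard).1 ⟨hmo, ?_⟩
    rw [hF₀]
    exact h4
  · rintro ⟨rfl, hp, hnot⟩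
    rw [hsplit]
    have h2 : (2 : F) ≠ 0 := by
      intro h
      apply hp
      have h' : ((2 : ℕ) : F) = 0 := by exact_mod_cast h
      rw [CharP.cast_eq_zero_iff F p] at h'
      exact ((Nat.prime_dvd_prime_iff_eq Fact.out Nat.prime_two).1 h')
    obtain ⟨ι₀, hι⟩ := exists_embedding_fixed hF σ 2 hσr two_pos F₀ hF₀
    have hcard : Fintype.card F = Fintype.card F₀ ^ 2 := by
      rw [hF, hF₀, ← pow_mul, Nat.div_mul_cancel hrf]
    refine (plus_field_split_two h2 hm σ hσr hstd ι₀ hι hcard).2 ?_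
    rw [hF₀]
    exact hnot

end Main

end Cfsg.Agent.Lib.Helper5.OPlus
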