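import Mathlib
import Cfsg.Agent.Lib.Helper5.OFld10

set_option autoImplicit false

/-! Abstract split extension lemmas used for the outer automorphism groups of the plus type
orthogonal groups. -/

namespace Cfsg.Agent.Lib.Helper5.OPlus

open DihedralGroup Cfsg.Agent.Lib.Helper5.OFld

section D8

theorem d8_f1 : ∀ s y : DihedralGroup 4, s * s = 1 → (∃ k : DihedralGroup 4, s * k ≠ k * s) →
    s * y ≠ y * s → s * y * s⁻¹ = y * r 2 := by decide

theorem d8_f2 : ∀ s y y₀ : DihedralGroup 4, s * s = 1 → (∃ k : DihedralGroup 4, s * k ≠ k * s) →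
    s * y ≠ y * s → s * y₀ ≠ y₀ * s → s * (y * y₀⁻¹) = (y * y₀⁻¹) * s := by decide

theorem d8_f3 : ∀ s y : DihedralGroup 4, s * s = 1 → (∃ k : DihedralGroup 4, s * k ≠ k * s) →
    s * y = y * s → y = 1 ∨ y = r 2 ∨ y = s ∨ y = s * r 2 := by decide

theorem d8_f4 : ∀ y : DihedralGroup 4, r 2 * y = y * r 2 := by decide

theorem d8_f5 : (sr 0 : DihedralGroup 4) * r 1 * (sr 0)⁻¹ * (r 1)⁻¹ = r 2 := by decide

theorem d8_f6 : (r 2 : DihedralGroup 4) ≠ 1 := by decide

theorem d8_f7 : (r 2 : DihedralGroup 4) * r 2 = 1 := by decide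

theorem d8_f8 : ∀ s : DihedralGroup 4, s ≠ 1 → s ≠ r 2 → ∃ k : DihedralGroup 4, s * k ≠ k * s := by
  decide

/-- an automorphism of the dihedral group of order eight which is trivial modulo the centre and fixes
a non-central involution `s` is the identity or conjugation by `s` -/
theorem d8_central_aut (β : DihedralGroup 4 ≃* DihedralGroup 4)
    (hβ : ∀ y, β y = y ∨ β y = y * r 2) (s : DihedralGroup 4) (hs2 : s * s = 1)
    (hsnc : ∃ k : DihedralGroup 4, s * k ≠ k * s) (hβs : β s = s) :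
    (∀ y, β y = y) ∨ (∀ y, β y = s * y * s⁻¹) := by
  by_cases hall : ∀ y, β y = y
  · exact Or.inl hall
  right
  push_neg at hall
  obtain ⟨y₀, hy₀⟩ := hall
  have hy₀' : β y₀ = y₀ * r 2 := by
    rcases hβ y₀ with h | h
    · exact absurd h hy₀
    · exact h
  have hr2 : β (r 2) = r 2 := by
    rcases hβ (r 2) with h | h
    · exact h
    · exfalso
      rw [d8_f7] at h
      have : β (r 2) = β 1 := by rw [h, map_one]
      exact d8_f6 (β.injective this)
  have hfix : ∀ y, s * y = y * s → β y = y := by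
    intro y hy
    rcases d8_f3 s y hs2 hsnc hy with rfl | rfl | rfl | rfl
    · exact map_one β
    · exact hr2
    · exact hβs
    · rw [map_mul, hβs, hr2]
  have hnc₀ : s * y₀ ≠ y₀ * s := fun h => hy₀ (hfix y₀ h)
  intro y
  by_cases hy : s * y = y * s
  · rw [hfix y hy, hy, mul_inv_cancel_right]
  · have h1 := hfix _ (d8_f2 s y y₀ hs2 hsnc hy hnc₀)
    have h2 : y = (y * y₀⁻¹) * y₀ := by group
    rw [d8_f1 s y hs2 hsnc hy]
    conv_lhs => rw [h2, map_mul, h1, hy₀']
    group

end D8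

section Split
variable {G C : Type*} [Group G] [Group C]

/-- a split extension with central kernel is a direct product -/
theorem central_split (θ : G →* C) (ψ : C →* G) (hθψ : ∀ c, θ (ψ c) = c)
    {K : Type*} [Group K] (e : ↥θ.ker ≃* K) (hcent : ∀ k ∈ θ.ker, ∀ g : G, g * k = k * g) :
    Nonempty (G ≃* K × C) := by
  let Ψ : K × C →* G := MonoidHom.noncommCoprod (θ.ker.subtype.comp e.symm.toMonoidHom) ψ
    (fun k c => (hcent _ (e.symm k).2 (ψ c)).symm)
  have hΨ : ∀ x : K × C, Ψ x = ((e.symm x.1 : θ.ker) : G) * ψ x.2 := fun x => rfl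
  have hinj : Function.Injective Ψ := by
    rw [injective_iff_map_eq_one]
    rintro ⟨k, c⟩ h
    rw [hΨ] at h
    have h1 := congrArg θ h
    rw [map_mul, map_one, hθψ] at h1
    have h2 : θ ((e.symm k : θ.ker) : G) = 1 := (e.symm k).2
    rw [h2, one_mul] at h1
    subst h1
    rw [map_one, mul_one] at h
    have h3 : e.symm k = 1 := Subtype.ext h
    rw [MulEquiv.map_eq_one_iff] at h3
    rw [h3]
    rfl
  have hsurj : Function.Surjective Ψ := by
    intro g
    have hk : g * (ψ (θ g))⁻¹ ∈ θ.ker := by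
      rw [MonoidHom.mem_ker, map_mul, map_inv, hθψ, mul_inv_cancel]
    refine ⟨⟨e ⟨_, hk⟩, θ g⟩, ?_⟩
    rw [hΨ]
    simp
  exact ⟨(MulEquiv.ofBijective Ψ ⟨hinj, hsurj⟩).symm⟩

end Split

end Cfsg.Agent.Lib.Helper5.OPlus
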