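import Mathlib
import Cfsg.Agent.Lib.Helper5.OPlus.G4

set_option autoImplicit false

/-! A split extension of a cyclic group by a dihedral group of order eight, acting by central
automorphisms fixing a non-central involution, is a direct product. -/

namespace Cfsg.Agent.Lib.Helper5.OPlus

open DihedralGroup Cfsg.Agent.Lib.Helper5.OFld

variable {G C : Type*} [Group G] [Group C]

theorem dihedral_split {f : ℕ} (hf : 1 ≤ f) (θ : G →* C) (ψ : C →* G) (hθψ : ∀ c, θ (ψ c) = c)
    (hC : Nat.card C = f) (c₀ : C) (hc₀ : orderOf c₀ = f)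
    (e : ↥θ.ker ≃* DihedralGroup 4) (z : G)
    (hcentral : ∀ g : G, ∀ k ∈ θ.ker, g * k * g⁻¹ * k⁻¹ = 1 ∨ g * k * g⁻¹ * k⁻¹ = z)
    (s : G) (hs : s ∈ θ.ker) (hs2 : s * s = 1) (hs1 : s ≠ 1) (hsz : s ≠ z)
    (hsψ : s * ψ c₀ = ψ c₀ * s) :
    Nonempty (G ≃* DihedralGroup 4 × Multiplicative (ZMod f)) := by
  haveI : NeZero f := ⟨by omega⟩
  haveI : Finite C := Nat.finite_of_card_ne_zero (by rw [hC]; omega)
  obtain ⟨x, hx⟩ : ∃ x : G, x = ψ c₀ := ⟨_, rfl⟩
  have hθx : θ x = c₀ := by rw [hx, hθψ]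
  have hxf : x ^ f = 1 := by rw [hx, ← map_pow, ← hc₀, pow_orderOf_eq_one, map_one]
  have hsx : s * x = x * s := by rw [hx]; exact hsψ
  have hnorm : ∀ g : G, ∀ k ∈ θ.ker, g * k * g⁻¹ ∈ θ.ker := fun g k hk =>
    Subgroup.Normal.conj_mem inferInstance k hk g
  -- the value of `z`
  have hz : z = ((e.symm (r 2) : θ.ker) : G) := by
    have h1 := hcentral ((e.symm (sr 0) : θ.ker) : G) ((e.symm (r 1) : θ.ker) : G) (e.symm (r 1)).2
    have h2 : ((e.symm (sr 0) : θ.ker) : G) * ((e.symm (r 1) : θ.ker) : G) *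
        ((e.symm (sr 0) : θ.ker) : G)⁻¹ * ((e.symm (r 1) : θ.ker) : G)⁻¹ =
        ((e.symm (r 2) : θ.ker) : G) := by
      rw [← d8_f5, map_mul, map_mul, map_mul, map_inv, map_inv]
      rfl
    rw [h2] at h1
    rcases h1 with h1 | h1
    · exfalso
      have : e.symm (r 2) = 1 := Subtype.ext h1
      rw [MulEquiv.map_eq_one_iff] at this
      exact d8_f6 this
    · exact h1.symm
  -- conjugation by `x` transported to the dihedral group
  let β : DihedralGroup 4 ≃* DihedralGroup 4 :=
    (e.symm.trans (MulAut.conjNormal (H := θ.ker) x)).trans e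
  have hβ_apply : ∀ y, β y = e ⟨x * (e.symm y : θ.ker) * x⁻¹, hnorm x _ (e.symm y).2⟩ := by
    intro y
    show e (MulAut.conjNormal (H := θ.ker) x (e.symm y)) = _
    congr 1
  have hβ : ∀ y, β y = y ∨ β y = y * r 2 := by
    intro y
    rcases hcentral x ((e.symm y : θ.ker) : G) (e.symm y).2 with h | h
    · left
      rw [hβ_apply]
      have : (⟨x * (e.symm y : θ.ker) * x⁻¹, hnorm x _ (e.symm y).2⟩ : θ.ker) = e.symm y := by
        apply Subtype.ext
        show x * (e.symm y : θ.ker) * x⁻¹ = _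
        calc x * ((e.symm y : θ.ker) : G) * x⁻¹
            = (x * ((e.symm y : θ.ker) : G) * x⁻¹ * ((e.symm y : θ.ker) : G)⁻¹) *
              ((e.symm y : θ.ker) : G) := by group
          _ = _ := by rw [h, one_mul]
      rw [this, MulEquiv.apply_symm_apply]
    · right
      rw [hβ_apply]
      have : (⟨x * (e.symm y : θ.ker) * x⁻¹, hnorm x _ (e.symm y).2⟩ : θ.ker) =
          e.symm (r 2) * e.symm y := by
        apply Subtype.ext
        show x * (e.symm y : θ.ker) * x⁻¹ = ((e.symm (r 2) : θ.ker) : G) * (e.symm y : θ.ker)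
        calc x * ((e.symm y : θ.ker) : G) * x⁻¹
            = (x * ((e.symm y : θ.ker) : G) * x⁻¹ * ((e.symm y : θ.ker) : G)⁻¹) *
              ((e.symm y : θ.ker) : G) := by group
          _ = _ := by rw [h, hz]
      rw [this, map_mul, MulEquiv.apply_symm_apply, MulEquiv.apply_symm_apply, d8_f4]
  -- the involution
  obtain ⟨s', hs'⟩ : ∃ s' : DihedralGroup 4, s' = e ⟨s, hs⟩ := ⟨_, rfl⟩
  have hs'symm : e.symm s' = ⟨s, hs⟩ := by rw [hs', MulEquiv.symm_apply_apply]
  have hs'2 : s' * s' = 1 := by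
    rw [hs', ← map_mul]
    have : (⟨s, hs⟩ : θ.ker) * ⟨s, hs⟩ = 1 := Subtype.ext hs2
    rw [this, map_one]
  have hs'nc : ∃ k : DihedralGroup 4, s' * k ≠ k * s' := by
    apply d8_f8
    · intro h
      rw [h, map_one] at hs'symm
      exact hs1 (congrArg Subtype.val hs'symm).symm
    · intro h
      rw [h] at hs'symm
      apply hsz
      rw [hz, hs'symm]
  have hβs : β s' = s' := by
    rw [hβ_apply]
    have : (⟨x * (e.symm s' : θ.ker) * x⁻¹, hnorm x _ (e.symm s').2⟩ : θ.ker) = ⟨s, hs⟩ := by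
      apply Subtype.ext
      show x * (e.symm s' : θ.ker) * x⁻¹ = s
      rw [hs'symm]
      show x * s * x⁻¹ = s
      rw [← hsx, mul_inv_cancel_right]
    rw [this, hs']
  -- the element `w = t x` centralizing the kernel
  have key : ∃ t : G, t ∈ θ.ker ∧ t * x = x * t ∧ t ^ f = 1 ∧
      ∀ k ∈ θ.ker, (t * x) * k = k * (t * x) := by
    rcases d8_central_aut β hβ s' hs'2 hs'nc hβs with hid | hconj
    · refine ⟨1, Subgroup.one_mem _, by rw [one_mul, mul_one], one_pow f, ?_⟩
      intro k hk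
      have h1 := hid (e ⟨k, hk⟩)
      rw [hβ_apply] at h1
      have h2 := e.injective h1
      have h3 : x * ((e.symm (e ⟨k, hk⟩) : θ.ker) : G) * x⁻¹ = k := congrArg Subtype.val h2
      rw [MulEquiv.symm_apply_apply] at h3
      rw [one_mul]
      calc x * k = (x * k * x⁻¹) * x := by group
        _ = k * x := by rw [h3]
    · have hconj' : ∀ k ∈ θ.ker, x * k * x⁻¹ = s * k * s⁻¹ := by
        intro k hk
        have h1 := hconj (e ⟨k, hk⟩)
        rw [hβ_apply, hs', ← map_inv, ← map_mul, ← map_mul] at h1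
        have h2 := e.injective h1
        have h3 : x * ((e.symm (e ⟨k, hk⟩) : θ.ker) : G) * x⁻¹ = s * k * s⁻¹ :=
          congrArg Subtype.val h2
        rw [MulEquiv.symm_apply_apply] at h3
        exact h3
      have hsinv : s⁻¹ = s := inv_eq_of_mul_eq_one_left hs2
      have hcomm : ∀ k ∈ θ.ker, (s * x) * k = k * (s * x) := by
        intro k hk
        have h1 := hconj' k hk
        calc (s * x) * k = s * (x * k * x⁻¹) * x := by group
          _ = s * (s * k * s⁻¹) * x := by rw [h1]
          _ = (s * s) * k * (s⁻¹ * x) := by group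
          _ = k * (s * x) := by rw [hs2, one_mul, hsinv]
      by_cases hall : ∀ k ∈ θ.ker, x * k = k * x
      · refine ⟨1, Subgroup.one_mem _, by rw [one_mul, mul_one], one_pow f, ?_⟩
        intro k hk
        rw [one_mul]
        exact hall k hk
      · refine ⟨s, hs, hsx, ?_, hcomm⟩
        -- `f` is even
        have hx2 : ∀ k ∈ θ.ker, (x * x) * k = k * (x * x) := by
          intro k hk
          have h1 := hconj' k hk
          have h2 := hconj' (x * k * x⁻¹) (hnorm x k hk)
          calc (x * x) * k = (x * (x * k * x⁻¹) * x⁻¹) * (x * x) := by group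
            _ = (s * (s * k * s⁻¹) * s⁻¹) * (x * x) := by rw [h2, h1]
            _ = ((s * s) * k * (s * s)⁻¹) * (x * x) := by group
            _ = k * (x * x) := by rw [hs2]; group
        rcases Nat.even_or_odd' f with ⟨j, hj | hj⟩
        · rw [hj, pow_mul, pow_two, hs2, one_pow]
        · exfalso
          apply hall
          have hxpow : ∀ n : ℕ, ∀ k ∈ θ.ker, (x * x) ^ n * k = k * (x * x) ^ n := by
            intro n
            induction n with
            | zero => intro k _; simp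
            | succ n ih =>
              intro k hk
              rw [pow_succ, mul_assoc, hx2 k hk, ← mul_assoc, ih k hk, mul_assoc]
          intro k hk
          have h1 : x * (x * x) ^ j = 1 := by
            rw [← pow_two, ← pow_mul, ← pow_succ', ← hj]
            exact hxf
          have h2 : x = ((x * x) ^ j)⁻¹ := eq_inv_of_mul_eq_one_left h1
          have h3 := hxpow j k hk
          rw [h2]
          calc ((x * x) ^ j)⁻¹ * k = ((x * x) ^ j)⁻¹ * (k * (x * x) ^ j) * ((x * x) ^ j)⁻¹ := by group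
            _ = ((x * x) ^ j)⁻¹ * ((x * x) ^ j * k) * ((x * x) ^ j)⁻¹ := by rw [h3]
            _ = k * ((x * x) ^ j)⁻¹ := by group
  obtain ⟨t, htk, htx, htf, hcomm⟩ := key
  obtain ⟨w, hw⟩ : ∃ w : G, w = t * x := ⟨_, rfl⟩
  have hwf : w ^ f = 1 := by
    rw [hw, (show Commute t x from htx).mul_pow, htf, hxf, one_mul]
  have hθw : θ w = c₀ := by
    rw [hw, map_mul, hθx]
    have : θ t = 1 := htk
    rw [this, one_mul]
  have hcomm' : ∀ k ∈ θ.ker, w * k = k * w := by rw [hw]; exact hcomm
  have hcommpow : ∀ n : ℕ, ∀ k ∈ θ.ker, w ^ n * k = k * w ^ n := by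
    intro n
    induction n with
    | zero => intro k _; simp
    | succ n ih =>
      intro k hk
      rw [pow_succ, mul_assoc, hcomm' k hk, ← mul_assoc, ih k hk, mul_assoc]
  let Ψ : DihedralGroup 4 × Multiplicative (ZMod f) →* G :=
    MonoidHom.noncommCoprod (θ.ker.subtype.comp e.symm.toMonoidHom) (zmodHom f w hwf)
      (fun y j => by
        show ((e.symm y : θ.ker) : G) * zmodHom f w hwf j = zmodHom f w hwf j * (e.symm y : θ.ker)
        rw [zmodHom_apply]
        exact (hcommpow _ _ (e.symm y).2).symm)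
  have hΨ : ∀ p : DihedralGroup 4 × Multiplicative (ZMod f),
      Ψ p = ((e.symm p.1 : θ.ker) : G) * w ^ (Multiplicative.toAdd p.2).val := fun p => rfl
  have hinj : Function.Injective Ψ := by
    rw [injective_iff_map_eq_one]
    rintro ⟨y, j⟩ h
    rw [hΨ] at h
    have h1 := congrArg θ h
    rw [map_mul, map_one, map_pow, hθw] at h1
    have h2 : θ ((e.symm y : θ.ker) : G) = 1 := (e.symm y).2
    rw [h2, one_mul] at h1
    have h3 : f ∣ (Multiplicative.toAdd j).val := by
      have := orderOf_dvd_of_pow_eq_one h1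
      rwa [hc₀] at this
    have h4 : (Multiplicative.toAdd j).val = 0 :=
      Nat.eq_zero_of_dvd_of_lt h3 (ZMod.val_lt _)
    have h5 : j = 1 := by
      have : Multiplicative.toAdd j = 0 := (ZMod.val_eq_zero _).1 h4
      exact this
    simp only at h
    rw [h4, pow_zero, mul_one] at h
    have h6 : e.symm y = 1 := Subtype.ext h
    rw [MulEquiv.map_eq_one_iff] at h6
    rw [h6, h5]
    rfl
  have hsurj : Function.Surjective Ψ := by
    intro g
    have hgen : θ g ∈ Subgroup.zpowers c₀ := by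
      have : Subgroup.zpowers c₀ = ⊤ := by
        apply Subgroup.eq_top_of_card_eq
        rw [Nat.card_zpowers, hc₀, hC]
      rw [this]
      exact Subgroup.mem_top _
    rw [Subgroup.mem_zpowers_iff] at hgen
    obtain ⟨n, hn⟩ := hgen
    obtain ⟨j, hj⟩ : ∃ j : ZMod f, j = (n : ZMod f) := ⟨_, rfl⟩
    have hpow : c₀ ^ j.val = c₀ ^ n := by
      rw [← zpow_natCast, zpow_eq_zpow_iff_modEq, hc₀, hj]
      have := ZMod.natCast_zmod_val (n : ZMod f)
      rw [← ZMod.intCast_eq_intCast_iff]
      push_cast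
      rw [ZMod.natCast_zmod_val]
    have hk : g * (w ^ j.val)⁻¹ ∈ θ.ker := by
      rw [MonoidHom.mem_ker, map_mul, map_inv, map_pow, hθw, hpow, hn, mul_inv_cancel]
    refine ⟨⟨e ⟨_, hk⟩, Multiplicative.ofAdd j⟩, ?_⟩
    rw [hΨ]
    simp
  exact ⟨(MulEquiv.ofBijective Ψ ⟨hinj, hsurj⟩).symm⟩

end Cfsg.Agent.Lib.Helper5.OPlus
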