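import Mathlib
import Cfsg.Agent.Lib.Helper5.OPlus.G5

set_option autoImplicit false

/-! The split extension lemmas for a quotient `A ⧸ I`. -/

namespace Cfsg.Agent.Lib.Helper5.OPlus

open DihedralGroup Cfsg.Agent.Lib.Helper5.OFld

variable {A C : Type*} [Group A] [Group C]

/-- a split extension with central kernel, for a quotient -/
theorem out_central_split (I P : Subgroup A) [I.Normal] (hIP : I ≤ P) (θ : A →* C)
    (hker : θ.ker = P) (ψ : C →* A) (hθψ : ∀ c, θ (ψ c) = c) {K : Type*} [Group K]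
    (φ : ↥P →* K) (hφ : Function.Surjective φ) (hφk : φ.ker = I.subgroupOf P)
    (hcentral : ∀ a : A, ∀ y ∈ P, a * y * a⁻¹ * y⁻¹ ∈ I) :
    Nonempty (A ⧸ I ≃* K × C) := by
  have hI : I ≤ θ.ker := by rw [hker]; exact hIP
  obtain ⟨e⟩ := ker_lift_equiv I P hIP θ hker φ hφ hφk
  have hcent : ∀ k ∈ (QuotientGroup.lift I θ hI).ker, ∀ g : A ⧸ I, g * k = k * g := by
    intro k hk g
    obtain ⟨y, rfl⟩ := QuotientGroup.mk_surjective k
    obtain ⟨a, rfl⟩ := QuotientGroup.mk_surjective g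
    rw [MonoidHom.mem_ker, QuotientGroup.lift_mk] at hk
    have hy : y ∈ P := by rw [← hker]; exact hk
    have h1 := (QuotientGroup.eq_one_iff (N := I) _).2 (hcentral a y hy)
    rw [QuotientGroup.mk_mul, QuotientGroup.mk_mul, QuotientGroup.mk_mul, QuotientGroup.mk_inv,
      QuotientGroup.mk_inv, mul_inv_eq_one, mul_inv_eq_iff_eq_mul] at h1
    exact h1
  exact central_split (QuotientGroup.lift I θ hI) ((QuotientGroup.mk' I).comp ψ)
    (fun c => by
      show QuotientGroup.lift I θ hI (QuotientGroup.mk (ψ c)) = c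
      rw [QuotientGroup.lift_mk, hθψ]) e hcent

/-- the dihedral case, for a quotient -/
theorem out_dihedral_split {f : ℕ} (hf : 1 ≤ f) (I P : Subgroup A) [I.Normal] (hIP : I ≤ P)
    (θ : A →* C) (hker : θ.ker = P) (ψ : C →* A) (hθψ : ∀ c, θ (ψ c) = c)
    (hC : Nat.card C = f) (c₀ : C) (hc₀ : orderOf c₀ = f)
    (φ : ↥P →* DihedralGroup 4) (hφ : Function.Surjective φ) (hφk : φ.ker = I.subgroupOf P)
    (S : Subgroup A) (hIS : I ≤ S) (hidx : I.relIndex S = 2)
    (hcentral : ∀ a : A, ∀ y ∈ P, a * y * a⁻¹ * y⁻¹ ∈ S)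
    (s : A) (hsP : s ∈ P) (hs2 : s * s ∈ I) (hsS : s ∉ S) (hsψ : s * ψ c₀ = ψ c₀ * s) :
    Nonempty (A ⧸ I ≃* DihedralGroup 4 × Multiplicative (ZMod f)) := by
  have hI : I ≤ θ.ker := by rw [hker]; exact hIP
  obtain ⟨e⟩ := ker_lift_equiv I P hIP θ hker φ hφ hφk
  -- the nontrivial class of `S` modulo `I`
  obtain ⟨a, ha⟩ := Subgroup.index_eq_two_iff.1 hidx
  obtain ⟨δ, hδ⟩ : ∃ δ : A, δ = ((a⁻¹ : S) : A) := ⟨_, rfl⟩
  have hcase : ∀ x ∈ S, x ∈ I ∨ x * δ⁻¹ ∈ I := by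
    intro x hx
    have := ha ⟨x, hx⟩
    rcases this with ⟨h1, -⟩ | ⟨h1, -⟩
    · right
      rw [Subgroup.mem_subgroupOf] at h1
      rw [hδ]
      simpa using h1
    · left
      exact h1
  have hcaseq : ∀ x ∈ S, (QuotientGroup.mk x : A ⧸ I) = 1 ∨
      (QuotientGroup.mk x : A ⧸ I) = QuotientGroup.mk δ := by
    intro x hx
    rcases hcase x hx with h | h
    · left
      exact (QuotientGroup.eq_one_iff x).2 h
    · right
      have := (QuotientGroup.eq_one_iff (N := I) _).2 h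
      rw [QuotientGroup.mk_mul, QuotientGroup.mk_inv, mul_inv_eq_one] at this
      exact this
  have hcent : ∀ g : A ⧸ I, ∀ k ∈ (QuotientGroup.lift I θ hI).ker,
      g * k * g⁻¹ * k⁻¹ = 1 ∨ g * k * g⁻¹ * k⁻¹ = QuotientGroup.mk δ := by
    intro g k hk
    obtain ⟨y, rfl⟩ := QuotientGroup.mk_surjective k
    obtain ⟨b, rfl⟩ := QuotientGroup.mk_surjective g
    rw [MonoidHom.mem_ker, QuotientGroup.lift_mk] at hk
    have hy : y ∈ P := by rw [← hker]; exact hk
    have := hcaseq _ (hcentral b y hy)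
    rw [QuotientGroup.mk_mul, QuotientGroup.mk_mul, QuotientGroup.mk_mul, QuotientGroup.mk_inv,
      QuotientGroup.mk_inv] at this
    exact this
  have hδS : δ ∈ S := by rw [hδ]; exact (a⁻¹).2
  refine dihedral_split hf (QuotientGroup.lift I θ hI) ((QuotientGroup.mk' I).comp ψ)
    (fun c => by
      show QuotientGroup.lift I θ hI (QuotientGroup.mk (ψ c)) = c
      rw [QuotientGroup.lift_mk, hθψ]) hC c₀ hc₀ e (QuotientGroup.mk δ) hcent
    (QuotientGroup.mk s) ?_ ?_ ?_ ?_ ?_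
  · rw [MonoidHom.mem_ker, QuotientGroup.lift_mk]
    have : s ∈ θ.ker := by rw [hker]; exact hsP
    exact this
  · rw [← QuotientGroup.mk_mul]
    exact (QuotientGroup.eq_one_iff _).2 hs2
  · intro h
    exact hsS (hIS ((QuotientGroup.eq_one_iff _).1 h))
  · intro h
    rw [QuotientGroup.eq] at h
    have h1 : s⁻¹ * δ ∈ S := hIS h
    have h2 : s = δ * (s⁻¹ * δ)⁻¹ := by group
    apply hsS
    rw [h2]
    exact S.mul_mem hδS (S.inv_mem h1)
  · show (QuotientGroup.mk s : A ⧸ I) * QuotientGroup.mk (ψ c₀) = QuotientGroup.mk (ψ c₀) * QuotientGroup.mk s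
    rw [← QuotientGroup.mk_mul, ← QuotientGroup.mk_mul, hsψ]

end Cfsg.Agent.Lib.Helper5.OPlus
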