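import Mathlib
import Cfsg.Agent.Lib.Helper5.OPlus.P1

set_option autoImplicit false

/-! The outer automorphism group of `PΩ⁺_{2m}(q)` for `m ≥ 5` and `q` even. -/

namespace Cfsg.Agent.Lib.Helper5.OPlus

open Matrix Cfsg.Agent.Lib.Helper5.PGO Cfsg.Agent.Lib.Helper5.OAut Cfsg.Agent.Lib.Helper5.OFld
open Cfsg.Agent.Lib.Helper2 Cfsg.Agent.Lib.Helper2.QuadStd Cfsg.Agent.Lib.Helper5.QuadGlue

variable {F : Type*} [Field F] [Fintype F]

/-- the outer automorphism group of `PΩ⁺_{2m}(2^f)`, `m ≥ 5` -/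
theorem out_plus_two_ge5 {f m : ℕ} (hf : 1 ≤ f) (hF : Fintype.card F = 2 ^ f) (hm : 5 ≤ m) :
    Nonempty (Cfsg.Out (Cfsg.POmega F (Cfsg.quadFormPlus m F)) ≃*
      Multiplicative (ZMod 2 × ZMod f)) := by
  classical
  haveI : Fact (Nat.Prime 2) := ⟨Nat.prime_two⟩
  haveI := PSL2Aut.charP_of_card hf hF
  have h2 : (2 : F) = 0 := by
    have := CharP.cast_eq_zero F 2
    exact_mod_cast this
  have hcoe := QP_coe (F := F) m
  have hQ := QP_nondeg (F := F) m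
  have hn : 7 ≤ Fintype.card (Fin m ⊕ Fin m) := by rw [card_plus]; omega
  have hinv : GalInv (⇑(QP m F)) := by rw [hcoe]; exact galInv_plus m
  have key : ∀ Q' : (Fin m ⊕ Fin m → F) → F, ⇑(QP m F) = Q' →
      Nonempty (Cfsg.Out (Cfsg.POmega F Q') ≃* Multiplicative (ZMod 2 × ZMod f)) := by
    intro Q' hQ'
    subst hQ'
    have hidx := relIndex_inn_pgo_two h2 hQ hn
    obtain ⟨e1⟩ := exists_out_equiv (Cfsg.Inn (Cfsg.POmega F ⇑(QP m F)))
      (Cfsg.pgoAut F ⇑(QP m F)) inn_le_pgo (Theta 2 hQ hn (lag_plus hm))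
      (Theta_ker 2 hQ hn (lag_plus hm)) (stdField hinv)
      (fun σ => by rw [stdField_apply]; exact Theta_PhiS 2 hQ hn (lag_plus hm) _) hidx
    obtain ⟨e2⟩ := PSL2Aut.exists_ringAut_iso hf hF
    exact ⟨e1.trans ((MulEquiv.prodCongr (MulEquiv.refl _) e2).trans
      (MulEquiv.prodMultiplicative (G := ZMod 2) (H := ZMod f)).symm)⟩
  exact key _ hcoe

end Cfsg.Agent.Lib.Helper5.OPlus
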