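import Mathlib
import Cfsg.Agent.Lib.Helper5.OPlus.P1
import Cfsg.Agent.Lib.Helper5.OPlus.G6
import Cfsg.Agent.Lib.Helper5.OFld44

set_option autoImplicit false

/-! The outer automorphism group of `PΩ⁺_{2m}(q)` for `m ≥ 5` and `q` odd. -/

namespace Cfsg.Agent.Lib.Helper5.OPlus

open Matrix Cfsg.Agent.Lib.Helper5.PGO Cfsg.Agent.Lib.Helper5.OAut Cfsg.Agent.Lib.Helper5.OFld
open Cfsg.Agent.Lib.Helper2 Cfsg.Agent.Lib.Helper2.QuadStd Cfsg.Agent.Lib.Helper5.QuadGlue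
open Cfsg.Agent.Lib.Helper2.CDG

variable {F : Type*} [Field F] [Fintype F]

theorem zmod_assoc_equiv (f : ℕ) :
    Nonempty (Multiplicative (ZMod 2 × ZMod 2) × Multiplicative (ZMod f) ≃*
      Multiplicative (ZMod 2 × ZMod 2 × ZMod f)) :=
  ⟨(MulEquiv.prodMultiplicative (G := ZMod 2 × ZMod 2) (H := ZMod f)).symm.trans
    (AddEquiv.toMultiplicative (AddEquiv.prodAssoc (M := ZMod 2) (N := ZMod 2) (P := ZMod f)))⟩

/-- the outer automorphism group of `PΩ⁺_{2m}(q)`, `m ≥ 5`, `q` odd, for the form as a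
`QuadraticForm` -/
theorem out_plus_odd_ge5_aux {p f m : ℕ} [Fact p.Prime] (hf : 1 ≤ f)
    (hF : Fintype.card F = p ^ f) (hp : p ≠ 2) (hm : 5 ≤ m) :
    if p ^ f % 4 = 3 ∧ Odd m then
      Nonempty (Cfsg.Out (Cfsg.POmega F ⇑(QP m F)) ≃*
        Multiplicative (ZMod 2 × ZMod 2 × ZMod f))
    else
      Nonempty (Cfsg.Out (Cfsg.POmega F ⇑(QP m F)) ≃*
        DihedralGroup 4 × Multiplicative (ZMod f)) := by
  classical
  have hp' : p.Prime := Fact.out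
  haveI := PSL2Aut.charP_of_card hf hF
  have h2 := two_ne_zero_of_odd hf hF hp
  have hQ := QP_nondeg (F := F) m
  have hQ0 : ∃ v, QP m F v ≠ 0 := QP_ne_zero (by omega)
  have hn : 7 ≤ Fintype.card (Fin m ⊕ Fin m) := by rw [card_plus]; omega
  have hinv : GalInv (⇑(QP m F)) := galInv_QP m
  have hodd : Odd (p ^ f) := (hp'.odd_of_ne_two hp).pow
  obtain ⟨hA, hB⟩ := structure_plus hF hodd (by omega : 4 ≤ m)
  obtain ⟨hR1, hR2⟩ := relIndex_plus hF hodd (by omega : 4 ≤ m)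
  obtain ⟨e2⟩ := PSL2Aut.exists_ringAut_iso hf hF
  have hθψ : ∀ σ : F ≃+* F, Theta p hQ hn (lag_plus hm) (stdField hinv σ) = σ := by
    intro σ
    rw [stdField_apply]
    exact Theta_PhiS p hQ hn (lag_plus hm) _
  have hcomm : ∀ (a y : MulAut (Cfsg.POmega F ⇑(QP m F))), y ∈ Cfsg.pgoAut F ⇑(QP m F) →
      a * y * a⁻¹ * y⁻¹ ∈ Cfsg.psoAut F ⇑(QP m F) :=
    fun a y hy => comm_mem_pso p hQ hQ0 (card_plus m) h2 hn (lag_plus hm) a y hy
  by_cases hc : p ^ f % 4 = 3 ∧ Odd m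
  · rw [if_pos hc]
    obtain ⟨φ, hφs, hφk⟩ := hA ⟨hc.2, hc.1⟩
    have hle : Cfsg.psoAut F ⇑(QP m F) ≤ Cfsg.Inn (Cfsg.POmega F ⇑(QP m F)) :=
      Subgroup.relIndex_eq_one.1 (hR1 ⟨hc.2, hc.1⟩)
    obtain ⟨e1⟩ := out_central_split (Cfsg.Inn (Cfsg.POmega F ⇑(QP m F)))
      (Cfsg.pgoAut F ⇑(QP m F)) inn_le_pgo (Theta p hQ hn (lag_plus hm))
      (Theta_ker p hQ hn (lag_plus hm)) (stdField hinv) hθψ φ hφs hφk
      (fun a y hy => hle (hcomm a y hy))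
    obtain ⟨e3⟩ := zmod_assoc_equiv f
    exact ⟨e1.trans ((MulEquiv.prodCongr (MulEquiv.refl _) e2).trans e3)⟩
  · rw [if_neg hc]
    have hc' : ¬ (Odd m ∧ p ^ f % 4 = 3) := fun h => hc ⟨h.2, h.1⟩
    obtain ⟨φ, hφs, hφk⟩ := hB hc'
    have hcard : Nat.card (F ≃+* F) = f := (PSL2Aut.ringAut_cyclic_card hf hF).2
    have hm1 : 1 ≤ m := by omega
    have hsS : Phi (⇑(QP m F)) (estar hm1) ∉ Cfsg.psoAut F ⇑(QP m F) := fun h =>
      Phi_refl_not_mem_idg hQ hQ0 (card_plus m) h2 hn _ _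
        (pso_le_idg hQ hQ0 (card_plus m) h2 h)
    have hsP : Phi (⇑(QP m F)) (estar hm1) ∈ Cfsg.pgoAut F ⇑(QP m F) := by
      rw [pgoAut_eq]
      exact ⟨_, rfl⟩
    have hs2 : Phi (⇑(QP m F)) (estar hm1) * Phi (⇑(QP m F)) (estar hm1) ∈
        Cfsg.Inn (Cfsg.POmega F ⇑(QP m F)) := by
      have : Phi (⇑(QP m F)) (estar hm1) * Phi (⇑(QP m F)) (estar hm1) = 1 :=
        refl_sq (vstar m hm1 F) (vstar_ne hm1)
      rw [this]
      exact Subgroup.one_mem _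
    exact out_dihedral_split hf (Cfsg.Inn (Cfsg.POmega F ⇑(QP m F)))
      (Cfsg.pgoAut F ⇑(QP m F)) inn_le_pgo (Theta p hQ hn (lag_plus hm))
      (Theta_ker p hQ hn (lag_plus hm)) (stdField hinv) hθψ hcard (frob F p)
      (orderOf_frob hf hF) φ hφs hφk (Cfsg.psoAut F ⇑(QP m F))
      (inn_le_pso hQ h2 (by omega)) (hR2 hc') hcomm
      (Phi (⇑(QP m F)) (estar hm1)) hsP hs2 hsS (by
        rw [stdField_apply]
        exact estar_comm_std (by omega) (frob F p))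

/-- the outer automorphism group of `PΩ⁺_{2m}(q)`, `m ≥ 5`, `q` odd -/
theorem out_plus_odd_ge5 {p f m : ℕ} [Fact p.Prime] (hf : 1 ≤ f)
    (hF : Fintype.card F = p ^ f) (hp : p ≠ 2) (hm : 5 ≤ m) :
    if p ^ f % 4 = 3 ∧ Odd m then
      Nonempty (Cfsg.Out (Cfsg.POmega F (Cfsg.quadFormPlus m F)) ≃*
        Multiplicative (ZMod 2 × ZMod 2 × ZMod f))
    else
      Nonempty (Cfsg.Out (Cfsg.POmega F (Cfsg.quadFormPlus m F)) ≃*
        DihedralGroup 4 × Multiplicative (ZMod f)) := by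
  have h := out_plus_odd_ge5_aux (F := F) hf hF hp hm
  rw [QP_coe] at h
  exact h

end Cfsg.Agent.Lib.Helper5.OPlus
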