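import Mathlib
import Cfsg.Agent.Lib.Helper5.OPlus.D8
import Cfsg.Agent.Lib.Helper5.OPlus.P4
import Cfsg.Agent.Lib.Helper5.OPlus.P5

set_option autoImplicit false

/-! The outer automorphism group of `PΩ⁺_{2m}(q)`, `m ≥ 4`. -/

namespace Cfsg.Agent.Lib.Helper5.OPlus

open Cfsg.Agent.Lib.Helper5.OFld Cfsg.Agent.Lib.Helper3.ChevM

variable {F : Type*} [Field F] [Fintype F]

/-- the outer automorphism group of `PΩ⁺_{2m}(2^f)` -/
theorem out_plus_two {f m : ℕ} (hf : 1 ≤ f) (hF : Fintype.card F = 2 ^ f) (hm : 4 ≤ m) :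
    if m = 4 then
      Nonempty (Cfsg.Out (Cfsg.POmega F (Cfsg.quadFormPlus m F)) ≃*
        Equiv.Perm (Fin 3) × Multiplicative (ZMod f))
    else
      Nonempty (Cfsg.Out (Cfsg.POmega F (Cfsg.quadFormPlus m F)) ≃*
        Multiplicative (ZMod 2 × ZMod f)) := by
  by_cases h4 : m = 4
  · subst h4
    rw [if_pos rfl]
    haveI : Fact (Nat.Prime 2) := ⟨Nat.prime_two⟩
    haveI := PSL2Aut.charP_of_card hf hF
    obtain ⟨e⟩ := Cfsg.Agent.Lib.Helper3.PO.d4_iso (F := F)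
    obtain ⟨e1⟩ := out_d4_even (K := F) f hf hF
    exact ⟨(Cfsg.Agent.H9Out.outCongr e.symm).trans e1⟩
  · rw [if_neg h4]
    exact out_plus_two_ge5 hf hF (by omega)

/-- the outer automorphism group of `PΩ⁺_{2m}(q)`, `q` odd -/
theorem out_plus_odd {p f m : ℕ} [Fact p.Prime] (hf : 1 ≤ f) (hF : Fintype.card F = p ^ f)
    (hp : p ≠ 2) (hm : 4 ≤ m) :
    if m = 4 then
      Nonempty (Cfsg.Out (Cfsg.POmega F (Cfsg.quadFormPlus m F)) ≃*
        Equiv.Perm (Fin 4) × Multiplicative (ZMod f))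
    else if p ^ f % 4 = 3 ∧ Odd m then
      Nonempty (Cfsg.Out (Cfsg.POmega F (Cfsg.quadFormPlus m F)) ≃*
        Multiplicative (ZMod 2 × ZMod 2 × ZMod f))
    else
      Nonempty (Cfsg.Out (Cfsg.POmega F (Cfsg.quadFormPlus m F)) ≃*
        DihedralGroup 4 × Multiplicative (ZMod f)) := by
  by_cases h4 : m = 4
  · subst h4
    rw [if_pos rfl]
    haveI := PSL2Aut.charP_of_card hf hF
    obtain ⟨e⟩ := Cfsg.Agent.Lib.Helper3.PO.d4_iso (F := F)
    obtain ⟨e1⟩ := out_d4_odd (K := F) p f hf hF hp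
    exact ⟨(Cfsg.Agent.H9Out.outCongr e.symm).trans e1⟩
  · rw [if_neg h4]
    exact out_plus_odd_ge5 hf hF hp (by omega)

end Cfsg.Agent.Lib.Helper5.OPlus
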